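import Cfsg.Agent.Lib.Helper12.TCG.Index
import Cfsg.Agent.Lib.Helper12.TC.Fn.Main

/-!
A permutation representation of a group with the universal property of a presented group from a table whose columns
are bijections and which satisfies the relators; no statement on the index of a subgroup (helper12).
-/

set_option autoImplicit false

namespace Cfsg.Agent.Lib.Helper12.TCG

open Cfsg.Agent.Lib.Helper12.TC

/-- the permutation representation given by a table -/
theorem rho_only {G : Type*} [Group G] (v : ℕ → G) (g IV : ℕ) (hg : g ≤ 16)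
    (hiv : ivK IV g = true)
    (baseL : List (List ℕ)) (hlet : lettersK g baseL = true)
    (TT : ℕ → ℕ → ℕ) (N : ℕ)
    (hperm : permG IV TT g N = true)
    (hlift : ∀ f : ℕ → Equiv.Perm (Fin N), (∀ s < g, f (invS IV s) = (f s)⁻¹) →
      (∀ b ∈ baseL, wprod f b = 1) → ∃ ρ : G →* Equiv.Perm (Fin N), ∀ x < g, ρ (v x) = f x)
    (hrels : Fn.relsK TT N baseL = true) :
    ∃ ρ : G →* Equiv.Perm (Fin N), ∀ x < g, ∀ i : Fin N, ((ρ (v x) i : Fin N) : ℕ) = TT x i := by
  let f : ℕ → Equiv.Perm (Fin N) := fun x => pT hg hiv hperm x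
  have hψ : ∀ x < g, ∀ i : Fin N, ((f x i : Fin N) : ℕ) = TT x i :=
    fun x hx i => pT_apply hg hiv hperm hx i
  have hwords : ∀ b ∈ baseL, wprod f b = 1 := by
    intro b hb
    have hbl : ∀ s ∈ b, s < g := fun s hs => lettersK_lt hlet hb hs
    apply Equiv.ext
    intro i
    apply Fin.ext
    rw [Fn.perm_word f hψ b hbl i]
    exact Nat.eq_of_beq_eq_true ((allBelowK_iff N _).mp ((allListK_iff _ _).mp hrels b hb) i.val i.isLt)
  obtain ⟨ρ, hρ0⟩ := hlift f (fun s hs => pT_inv hg hiv hperm hs) hwords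
  refine ⟨ρ, fun x hx i => ?_⟩
  rw [hρ0 x hx]
  exact hψ x hx i

end Cfsg.Agent.Lib.Helper12.TCG
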