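import Cfsg.Agent.Lib.Helper12.TCG.Wide

/-!
Coset enumeration certificates for generators with inverses: an upper bound for the index of the subgroup, which needs
the facts of the certificate only and not the permutation representation on the cosets (helper12).
-/

set_option autoImplicit false

namespace Cfsg.Agent.Lib.Helper12.TCG

open Cfsg.Agent.Lib.Helper12.TC

section Le

variable {G : Type*} [Group G] (H : Subgroup G) (v : ℕ → G) (F : ℕ → ℕ) (IV : ℕ)
variable (hinv : ∀ s, s < 16 → v (invS IV s) = (v s)⁻¹)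
variable {g N K : ℕ}

include hinv in
/-- the subgroup has at most `N` cosets -/
theorem index_le {recs : List ℕ} (hg : g ≤ 16) (hiv : ivK IV g = true)
    (hvalid : ∀ k < K, Valid H v F k)
    (hfin : finG IV F K g recs = true) (hlen : recs.length = N)
    (hgen : ∀ γ : G, γ ∈ Subgroup.closure {y | ∃ x < g, y = v x}) :
    Finite (G ⧸ H) ∧ Nat.card (G ⧸ H) ≤ N := by
  have hcov := covering H v F IV hinv hg hiv hvalid hfin hgen
  let Θ : Fin (repsOf recs).length → G ⧸ H :=
    fun i => (((tau v F ((repsOf recs).get i))⁻¹ : G) : G ⧸ H)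
  have hΘ : Function.Surjective Θ := by
    intro q
    induction q using QuotientGroup.induction_on with
    | H γ =>
      obtain ⟨ℓ, hℓ, hmem⟩ := hcov γ⁻¹
      obtain ⟨i, hi⟩ := List.mem_iff_get.mp hℓ
      refine ⟨i, ?_⟩
      show (((tau v F ((repsOf recs).get i))⁻¹ : G) : G ⧸ H) = (γ : G ⧸ H)
      rw [QuotientGroup.eq, hi]
      rw [inv_inv] at hmem ⊢
      exact hmem
  have hfinite : Finite (G ⧸ H) := Finite.of_surjective Θ hΘ
  refine ⟨hfinite, ?_⟩
  have := Nat.card_le_card_of_surjective Θ hΘ
  rw [Nat.card_fin] at this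
  have h2 : (repsOf recs).length = N := by
    rw [← hlen]; exact List.length_map _
  rwa [h2] at this

end Le

set_option maxHeartbeats 1000000 in
/-- an upper bound for the index of the subgroup -/
theorem main_leW {G : Type*} [Group G] (v : ℕ → G) (g IV : ℕ) (hg : g ≤ 15)
    (hiv : ivK IV g = true)
    (hvinv : ∀ s < g, v (invS IV s) = (v s)⁻¹) (hvge : ∀ s, ¬ s < g → v s = 1)
    (hgen : ∀ γ : G, γ ∈ Subgroup.closure {y | ∃ x < g, y = v x})
    (baseL : List (List ℕ)) (hbase : ∀ b ∈ baseL, wprod v b = 1) (hlet : lettersK g baseL = true)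
    (sw : List (List ℕ)) (hletsw : lettersK g sw = true) (H : Subgroup G)
    (hH : H = Subgroup.closure {γ | ∃ w ∈ sw, γ = wprod v w})
    (F : ℕ → ℕ) (RW : ℕ) (finrecs : List ℕ) (rotW : List (ℕ × ℕ))
    (chunks : List (ℕ × List ℕ)) (D K R0 R N : ℕ)
    (hdefs : defsK F D = true)
    (hchunks : ∀ c ∈ chunks, chunkW IV F RW R0 c.2 c.1 = true)
    (hcover : coverK D K chunks = true)
    (hrelc : relCheckK RW R0 R baseL rotW sw = true)
    (hfin : finG IV F K g finrecs = true) (hlen : finrecs.length = N) :
    Finite (G ⧸ H) ∧ Nat.card (G ⧸ H) ≤ N := by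
  have hg16 : g ≤ 16 := by omega
  have hv15 : v 15 = 1 := hvge 15 (by omega)
  have hiv15 : invS IV 15 = 15 := ivK_ge hiv (by omega) (by decide)
  have hinv : ∀ s, s < 16 → v (invS IV s) = (v s)⁻¹ := by
    intro s hs16
    by_cases hs : s < g
    · exact hvinv s hs
    · rw [ivK_ge hiv hs hs16, hvge s hs, inv_one]
  have hswH : ∀ w ∈ sw, wprod v w ∈ H := by
    intro w hw
    rw [hH]
    exact Subgroup.subset_closure ⟨w, hw, rfl⟩
  have hlet15 : ∀ L : List (List ℕ), lettersK g L = true → lettersK 15 L = true := by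
    intro L hL
    refine (allListK_iff L _).mpr (fun w hw => (allListK_iff w _).mpr (fun s hs => ?_))
    have : s < g := lettersK_lt hL hw hs
    exact Nat.ble_eq_true_of_le (by omega)
  obtain ⟨hrel1, hrel2⟩ := relCheck_sound H v hrelc (hlet15 _ hlet) (hlet15 _ hletsw) hbase hswH
  have hvalid : ∀ k < K, Valid H v F k := by
    intro k
    induction k using Nat.strong_induction_on with
    | _ k ih =>
      intro hk
      by_cases hkD : k < D
      · exact defsK_sound H v F hdefs hkD
      · exact chunks_validW H v F IV hv15 hinv hiv15 hrel1 hrel2 chunks K D hchunks hcover k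
          (Nat.le_of_not_lt hkD) hk (fun j hj => ih j hj (lt_trans hj hk))
  exact index_le H v F IV hinv hg16 hiv hvalid hfin hlen hgen

/-- a group with a subgroup of at most `n` cosets which lies in the image of a group with at most `m` elements has at
most `n * m` elements -/
theorem card_le_of_index_le {A B : Type} [Group A] [Group B] [Finite A] (ι : A →* B) (Hs : Subgroup B)
    (hle : Hs ≤ ι.range) (n m : ℕ) (hidx : Finite (B ⧸ Hs) ∧ Nat.card (B ⧸ Hs) ≤ n)
    (hm : Nat.card A ≤ m) : Finite B ∧ Nat.card B ≤ n * m := by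
  have hfr : Finite ι.range := Finite.of_surjective _ ι.rangeRestrict_surjective
  have hcr : Nat.card ι.range ≤ m :=
    (Nat.card_le_card_of_surjective _ ι.rangeRestrict_surjective).trans hm
  have hinj : Function.Injective (Subgroup.inclusion hle) := Subgroup.inclusion_injective _
  have hfH : Finite Hs := Finite.of_injective _ hinj
  have hcH : Nat.card Hs ≤ m := (Nat.card_le_card_of_injective _ hinj).trans hcr
  have hfq : Finite (B ⧸ Hs) := hidx.1
  have h1 := Hs.index_mul_card
  have hi : Hs.index = Nat.card (B ⧸ Hs) := Subgroup.index_eq_card Hs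
  have hipos : 0 < Nat.card (B ⧸ Hs) := Nat.card_pos
  have hHpos : 0 < Nat.card Hs := Nat.card_pos
  have hB : Nat.card B ≠ 0 := by
    rw [← h1, hi]
    exact (Nat.mul_pos hipos hHpos).ne'
  refine ⟨Nat.finite_of_card_ne_zero hB, ?_⟩
  rw [← h1, hi]
  exact Nat.mul_le_mul hidx.2 hcH

end Cfsg.Agent.Lib.Helper12.TCG
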