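import Cfsg.Agent.Lib.Helper12.TCG.Parts

/-!
Groups presented by lists of words in numbered letters: the letters `s < n` are generators, a word is a relator
if it is in the list.  The inverse of a letter is a letter, by the relators of length two (helper12).
-/

set_option autoImplicit false

namespace Cfsg.Agent.Lib.Helper12.TCG.WPres

open Cfsg.Agent.Lib.Helper12.TC Cfsg.Agent.Lib.Helper12.TCG

variable (n : ℕ) (baseL : List (List ℕ))

/-- the letters as elements of the free group, the numbers from `n` on being trivial -/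
def letter (s : ℕ) : FreeGroup (Fin n) := if h : s < n then FreeGroup.of ⟨s, h⟩ else 1

/-- the relators -/
def rels : Set (FreeGroup (Fin n)) := {r | ∃ b ∈ baseL, r = wprod (letter n) b}

/-- the presented group -/
abbrev Grp : Type := PresentedGroup (rels n baseL)

/-- the letters as elements of the presented group -/
def v (s : ℕ) : Grp n baseL := PresentedGroup.mk (rels n baseL) (letter n s)

theorem wprod_map {G K : Type*} [Group G] [Group K] (φ : G →* K) (u : ℕ → G) (l : List ℕ) :
    wprod (fun s => φ (u s)) l = φ (wprod u l) := by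
  induction l with
  | nil => rw [wprod_nil, wprod_nil, map_one]
  | cons s l ih => rw [wprod_cons, wprod_cons, ih, map_mul]

theorem hbase : ∀ b ∈ baseL, wprod (v n baseL) b = 1 := by
  intro b hb
  show wprod (fun s => PresentedGroup.mk (rels n baseL) (letter n s)) b = 1
  rw [wprod_map]
  exact PresentedGroup.one_of_mem ⟨b, hb, rfl⟩

theorem hvge : ∀ s, ¬ s < n → v n baseL s = 1 := by
  intro s hs
  show PresentedGroup.mk (rels n baseL) (letter n s) = 1
  unfold letter
  rw [dif_neg hs, map_one]

theorem hvinv (IV : ℕ) (hpairs : ∀ s < n, [s, invS IV s] ∈ baseL) :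
    ∀ s < n, v n baseL (invS IV s) = (v n baseL s)⁻¹ := by
  intro s hs
  have h := hbase n baseL _ (hpairs s hs)
  rw [wprod_cons, wprod_cons, wprod_nil, mul_one] at h
  exact (inv_eq_of_mul_eq_one_right h).symm

theorem hgen : ∀ γ : Grp n baseL, γ ∈ Subgroup.closure {y | ∃ x < n, y = v n baseL x} := by
  intro γ
  have : Subgroup.closure {y : Grp n baseL | ∃ x < n, y = v n baseL x} = ⊤ := by
    rw [eq_top_iff, ← PresentedGroup.closure_range_of (rels n baseL)]
    apply Subgroup.closure_mono
    rintro _ ⟨y, rfl⟩
    refine ⟨y.val, y.isLt, ?_⟩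
    show _ = PresentedGroup.mk (rels n baseL) (letter n y.val)
    unfold letter
    rw [dif_pos y.isLt]
    rfl
  rw [this]
  trivial

/-- the universal property of the presented group -/
theorem hlift (hlet : lettersK n baseL = true) {K : Type*} [Group K] (f : ℕ → K)
    (hw : ∀ b ∈ baseL, wprod f b = 1) :
    ∃ ρ : Grp n baseL →* K, ∀ x < n, ρ (v n baseL x) = f x := by
  let φ : FreeGroup (Fin n) →* K := FreeGroup.lift (fun y => f y.val)
  have hφ : ∀ s < n, φ (letter n s) = f s := by
    intro s hs
    unfold letter
    rw [dif_pos hs]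
    exact FreeGroup.lift_apply_of
  have hwv : ∀ l : List ℕ, (∀ s ∈ l, s < n) → φ (wprod (letter n) l) = wprod f l := by
    intro l
    induction l with
    | nil => intro _; rw [wprod_nil, wprod_nil, map_one]
    | cons s l ih =>
      intro hl
      rw [wprod_cons, wprod_cons, map_mul, ih (fun t ht => hl t (List.mem_cons_of_mem _ ht)),
        hφ s (hl s List.mem_cons_self)]
  have hrel : ∀ r ∈ rels n baseL, φ r = 1 := by
    rintro r ⟨b, hb, rfl⟩
    rw [hwv b (fun s hs => lettersK_lt hlet hb hs)]
    exact hw b hb
  refine ⟨PresentedGroup.toGroup hrel, ?_⟩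
  intro x hx
  exact hφ x hx

/-- the form of the universal property used for the permutation representations -/
theorem hliftPerm (hlet : lettersK n baseL = true) (IV : ℕ) {N : ℕ} (f : ℕ → Equiv.Perm (Fin N))
    (_hf : ∀ s < n, f (invS IV s) = (f s)⁻¹) (hw : ∀ b ∈ baseL, wprod f b = 1) :
    ∃ ρ : Grp n baseL →* Equiv.Perm (Fin N), ∀ x < n, ρ (v n baseL x) = f x :=
  hlift n baseL hlet f hw

/-- two homomorphisms which agree on the letters are equal -/
theorem hom_ext {K : Type*} [Group K] (ρ σ : Grp n baseL →* K)
    (h : ∀ x < n, ρ (v n baseL x) = σ (v n baseL x)) : ρ = σ := by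
  refine MonoidHom.ext fun γ => ?_
  refine Subgroup.closure_induction (p := fun γ _ => ρ γ = σ γ) ?_ ?_ ?_ ?_ (hgen n baseL γ)
  · rintro y ⟨x, hx, rfl⟩
    exact h x hx
  · rw [map_one, map_one]
  · intro x y _ _ hx hy
    rw [map_mul, map_mul, hx, hy]
  · intro x _ hx
    rw [map_inv, map_inv, hx]

end Cfsg.Agent.Lib.Helper12.TCG.WPres
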