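import Cfsg.Agent.Lib.Helper12.TCG.Fi24Pres

/-!
The subgroup of the presented Fischer group Fi24 generated by all generators but `k` (helper12).
-/

set_option autoImplicit false

namespace Cfsg.Agent.Lib.Helper12.TCG.Fi24Pres

open Cfsg.Spor

/-- the subgroup generated by the images of all generators but `k` -/
noncomputable def Hs : Subgroup Fi24 :=
  (Subgroup.closure ({Fi24.a, Fi24.b, Fi24.c, Fi24.d, Fi24.e, Fi24.f, Fi24.g, Fi24.h, Fi24.i, Fi24.j,
    Fi24.l} : Set (FreeGroup Fi24.Gen))).map (PresentedGroup.mk rels)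

end Cfsg.Agent.Lib.Helper12.TCG.Fi24Pres
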