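import Cfsg.Agent.Lib.Helper12.TC.Core

/-!
Verified coset enumeration certificates for generators with inverses (helper12).

The letters are the numbers below `15`; the letter `invS IV s` (the nibble number `s` of the number `IV`)
stands for the inverse of the letter `s`.  A fact `(src, sym, dst)` used backwards reads the inverse letter.
Otherwise the certificates are those of `Cfsg.Agent.Lib.Helper12.TC`.
-/

set_option autoImplicit false

namespace Cfsg.Agent.Lib.Helper12.TCG

open Cfsg.Agent.Lib.Helper12.TC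

/-- the inverse letter -/
def invS (IV s : ℕ) : ℕ := Nat.land (Nat.shiftRight IV (Nat.mul 4 s)) 15

/-- the letter of a fact used forwards (`o = 0`) or backwards (`o = 1`) -/
def symO (IV e o : ℕ) : ℕ :=
  @Nat.rec (fun _ => ℕ) (fSym e) (fun _ _ => invS IV (fSym e)) o

theorem symO_zero (IV e : ℕ) : symO IV e 0 = fSym e := rfl
theorem symO_one (IV e : ℕ) : symO IV e 1 = invS IV (fSym e) := rfl

/-- `n` walk steps, as in `stepsK`, a fact used backwards reads the inverse letter -/
def stepsG (IV : ℕ) (F : ℕ → ℕ) (kk1 rec p lw : ℕ) (n : ℕ) : ℕ → ℕ → Bool :=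
  @Nat.rec (fun _ => ℕ → ℕ → Bool)
    (fun cur wd => @Bool.rec (fun _ => Bool) false (Nat.beq wd lw) (Nat.beq cur p))
    (fun n ih cur wd =>
      (fun code => (fun e =>
        @Bool.rec (fun _ => Bool) false
          (@Bool.rec (fun _ => Bool)
            (@Bool.rec (fun _ => Bool) false
              (forceN (Nat.shiftRight wd 4) (fun wd' => ih (oDst e (Nat.land code 1)) wd'))
              (Nat.beq (Nat.land wd 15) (Nat.succ (symO IV e (Nat.land code 1)))))
            (ih (oDst e (Nat.land code 1)) wd)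
            (Nat.beq (fSym e) 15))
          (Nat.beq (oSrc e (Nat.land code 1)) cur))
        (F (Nat.sub kk1 (Nat.shiftRight code 1))))
      (Nat.land (Nat.shiftRight rec (Nat.add (Nat.mul 24 n) 24)) 16777215))
    n

/-- check of the derived fact number `kk` with the record `rec` -/
def factG (IV : ℕ) (F : ℕ → ℕ) (RW R0 kk rec : ℕ) : Bool :=
  @Bool.rec (fun _ => Bool) false
    (@Bool.rec (fun _ => Bool)
      (@Bool.rec (fun _ => Bool) false
        (stepsG IV F (Nat.sub kk 1) rec (fSrc (F kk)) (lastW (F kk))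
          (Nat.land (Nat.shiftRight rec 8) 65535) (fDst (F kk)) (relW RW (Nat.land rec 255)))
        (Nat.beq (fDst (F kk)) 0))
      (stepsG IV F (Nat.sub kk 1) rec (fSrc (F kk)) (lastW (F kk))
        (Nat.land (Nat.shiftRight rec 8) 65535) (fDst (F kk)) (relW RW (Nat.land rec 255)))
      (Nat.ble (Nat.succ (Nat.land rec 255)) R0))
    (Nat.ble 1 kk)

/-- check of consecutive derived facts starting with number `kk` -/
def chunkG (IV : ℕ) (F : ℕ → ℕ) (RW R0 : ℕ) (recs : List ℕ) : ℕ → Bool :=
  @List.rec ℕ (fun _ => ℕ → Bool) (fun _ => true)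
    (fun r _ ih kk => @Bool.rec (fun _ => Bool) false
      (forceN (Nat.succ kk) (fun kk' => ih kk')) (factG IV F RW R0 kk r))
    recs

section Sound

variable {G : Type*} [Group G] (H : Subgroup G) (v : ℕ → G) (F : ℕ → ℕ) (IV : ℕ)

variable (hv15 : v 15 = 1) (hinv : ∀ s, s < 16 → v (invS IV s) = (v s)⁻¹)

include hinv in
theorem valid_oriented {k : ℕ} (c : ℕ) (hk : Valid H v F k) :
    tau v F (oSrc (F k) (Nat.land c 1)) * v (symO IV (F k) (Nat.land c 1)) *
      (tau v F (oDst (F k) (Nat.land c 1)))⁻¹ ∈ H := by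
  have ho : Nat.land c 1 = 0 ∨ Nat.land c 1 = 1 := by
    have : c &&& 1 = c % 2 := Nat.and_one_is_mod c
    have h2 : Nat.land c 1 = c % 2 := this
    omega
  rcases ho with ho | ho
  · rw [ho, oSrc_zero, oDst_zero, symO_zero]; exact hk
  · rw [ho, oSrc_one, oDst_one, symO_one]
    have h1 := H.inv_mem hk
    have h2 : v (invS IV (fSym (F k))) = (v (fSym (F k)))⁻¹ := hinv _ (fSym_lt _)
    have h3 : (tau v F (fSrc (F k)) * v (fSym (F k)) * (tau v F (fDst (F k)))⁻¹)⁻¹
        = tau v F (fDst (F k)) * (v (fSym (F k)))⁻¹ * (tau v F (fSrc (F k)))⁻¹ := by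
      rw [mul_inv_rev, mul_inv_rev, inv_inv, mul_assoc]
    rw [h3] at h1
    rw [h2]
    exact h1

include hv15 hinv in
theorem stepsG_sound {kk1 rec p lw : ℕ} (hall : ∀ j ≤ kk1, Valid H v F j)
    (hiv15 : invS IV 15 = 15) :
    ∀ (n cur wd : ℕ), stepsG IV F kk1 rec p lw n cur wd = true →
      ∃ l, unpack wd = l ++ unpack lw ∧ tau v F cur * wprod v l * (tau v F p)⁻¹ ∈ H := by
  intro n
  induction n with
  | zero =>
    intro cur wd h
    have e0 : stepsG IV F kk1 rec p lw 0 cur wd =
        @Bool.rec (fun _ => Bool) false (Nat.beq wd lw) (Nat.beq cur p) := rfl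
    rw [e0] at h
    obtain ⟨h1, h2⟩ := boolRec_false_eq_true h
    have e1 : cur = p := Nat.eq_of_beq_eq_true h1
    have e2 : wd = lw := Nat.eq_of_beq_eq_true h2
    refine ⟨[], by rw [e2]; rfl, ?_⟩
    rw [e1, wprod_nil, mul_one, mul_inv_cancel]; exact H.one_mem
  | succ n ih =>
    intro cur wd h
    set code := Nat.land (Nat.shiftRight rec (Nat.add (Nat.mul 24 n) 24)) 16777215 with hcode
    set fid := Nat.sub kk1 (Nat.shiftRight code 1) with hfid
    have e0 : stepsG IV F kk1 rec p lw (n+1) cur wd =
        @Bool.rec (fun _ => Bool) false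
          (@Bool.rec (fun _ => Bool)
            (@Bool.rec (fun _ => Bool) false
              (forceN (Nat.shiftRight wd 4)
                (fun wd' => stepsG IV F kk1 rec p lw n (oDst (F fid) (Nat.land code 1)) wd'))
              (Nat.beq (Nat.land wd 15) (Nat.succ (symO IV (F fid) (Nat.land code 1)))))
            (stepsG IV F kk1 rec p lw n (oDst (F fid) (Nat.land code 1)) wd)
            (Nat.beq (fSym (F fid)) 15))
          (Nat.beq (oSrc (F fid) (Nat.land code 1)) cur) := rfl
    rw [e0] at h
    obtain ⟨h1, h⟩ := boolRec_false_eq_true h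
    have e1 : oSrc (F fid) (Nat.land code 1) = cur := Nat.eq_of_beq_eq_true h1
    have hfl : fid ≤ kk1 := Nat.sub_le _ _
    have hv := valid_oriented H v F IV hinv code (hall fid hfl)
    rw [e1] at hv
    rcases boolRec_eq_true h with ⟨h2, h⟩ | ⟨h2, h⟩
    · -- a letter is read
      obtain ⟨h3, h⟩ := boolRec_false_eq_true h
      rw [forceN_eq] at h
      obtain ⟨l, hl, hmem⟩ := ih _ _ h
      have e3' : wd &&& 15 = symO IV (F fid) (Nat.land code 1) + 1 := Nat.eq_of_beq_eq_true h3
      have e3 : wd % 16 = symO IV (F fid) (Nat.land code 1) + 1 := by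
        rw [← e3']; exact (Nat.and_two_pow_sub_one_eq_mod wd 4).symm
      have hw : wd ≠ 0 := by
        intro h0; rw [h0] at e3; simp at e3
      refine ⟨symO IV (F fid) (Nat.land code 1) :: l, ?_, ?_⟩
      · rw [unpack_pos hw, e3]
        have : Nat.shiftRight wd 4 = wd / 16 := Nat.shiftRight_eq_div_pow wd 4
        rw [this] at hl
        rw [hl]; rfl
      · have := H.mul_mem hv hmem
        rw [wprod_cons]
        convert this using 1
        group
    · -- the empty word
      obtain ⟨l, hl, hmem⟩ := ih _ _ h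
      have e2 : fSym (F fid) = 15 := Nat.eq_of_beq_eq_true h2
      have e4 : v (symO IV (F fid) (Nat.land code 1)) = 1 := by
        have ho : Nat.land code 1 = 0 ∨ Nat.land code 1 = 1 := by
          have : code &&& 1 = code % 2 := Nat.and_one_is_mod code
          have h2 : Nat.land code 1 = code % 2 := this
          omega
        rcases ho with ho | ho
        · rw [ho, symO_zero, e2, hv15]
        · rw [ho, symO_one, e2, hiv15, hv15]
      rw [e4] at hv
      refine ⟨l, hl, ?_⟩
      have := H.mul_mem hv hmem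
      convert this using 1
      group

include hv15 hinv in
theorem factG_sound {RW R0 kk rec : ℕ} (hiv15 : invS IV 15 = 15)
    (hrel1 : ∀ rid < R0, wprod v (unpack (relW RW rid)) = 1)
    (hrel2 : ∀ rid, wprod v (unpack (relW RW rid)) ∈ H)
    (hall : ∀ j < kk, Valid H v F j) (h : factG IV F RW R0 kk rec = true) :
    Valid H v F kk := by
  unfold factG at h
  obtain ⟨h0, h⟩ := boolRec_false_eq_true h
  have hkk : 1 ≤ kk := Nat.le_of_ble_eq_true h0
  set rid := Nat.land rec 255 with hrid
  set p := fSrc (F kk) with hp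
  set q := fDst (F kk) with hq
  set s := fSym (F kk) with hs
  have hrun : stepsG IV F (Nat.sub kk 1) rec p (lastW (F kk))
      (Nat.land (Nat.shiftRight rec 8) 65535) q (relW RW rid) = true ∧ (rid < R0 ∨ q = 0) := by
    rcases boolRec_eq_true h with ⟨h2, h⟩ | ⟨h2, h⟩
    · obtain ⟨h3, h⟩ := boolRec_false_eq_true h
      exact ⟨h, Or.inr (Nat.eq_of_beq_eq_true h3)⟩
    · exact ⟨h, Or.inl (Nat.le_of_ble_eq_true h2)⟩
  obtain ⟨hrun, hcase⟩ := hrun
  have hall' : ∀ j ≤ Nat.sub kk 1, Valid H v F j := by
    intro j hj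
    apply hall
    have : Nat.sub kk 1 = kk - 1 := rfl
    omega
  obtain ⟨l, hun, hmem⟩ := stepsG_sound H v F IV hv15 hinv hall' hiv15 _ _ _ hrun
  have hword : wprod v (unpack (relW RW rid)) = wprod v l * v s := by
    rw [hun, wprod_append]
    congr 1
    cases h3 : Nat.beq s 15 with
    | true =>
      have e2 : lastW (F kk) = 0 := by
        show @Bool.rec (fun _ => ℕ) (Nat.succ s) 0 (Nat.beq s 15) = 0
        rw [h3]
      have : s = 15 := Nat.eq_of_beq_eq_true h3
      rw [e2, this, hv15, unpack_zero]; rfl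
    | false =>
      have e2 : lastW (F kk) = s + 1 := by
        show @Bool.rec (fun _ => ℕ) (Nat.succ s) 0 (Nat.beq s 15) = s + 1
        rw [h3]
      have hne : s ≠ 15 := fun h15 => by rw [h15] at h3; exact absurd h3 (by decide)
      have hlt : s < 16 := fSym_lt (F kk)
      have h15 : s < 15 := by omega
      have hw : s + 1 ≠ 0 := by omega
      rw [e2, unpack_pos hw]
      have a1 : (s + 1) % 16 - 1 = s := by omega
      have a2 : (s + 1) / 16 = 0 := by omega
      rw [a1, a2, unpack_zero, wprod_cons, wprod_nil, mul_one]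
  have hX : tau v F q * wprod v (unpack (relW RW rid)) * (tau v F q)⁻¹ ∈ H := by
    rcases hcase with h1 | h1
    · rw [hrel1 rid h1, mul_one, mul_inv_cancel]; exact H.one_mem
    · rw [h1, tau_zero, one_mul, inv_one, mul_one]; exact hrel2 rid
  have := H.mul_mem (H.inv_mem hmem) hX
  show tau v F p * v s * (tau v F q)⁻¹ ∈ H
  rw [hword] at this
  convert this using 1
  group

include hv15 hinv in
theorem chunkG_sound {RW R0 : ℕ} (hiv15 : invS IV 15 = 15)
    (hrel1 : ∀ rid < R0, wprod v (unpack (relW RW rid)) = 1)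
    (hrel2 : ∀ rid, wprod v (unpack (relW RW rid)) ∈ H) :
    ∀ (recs : List ℕ) (kk : ℕ), chunkG IV F RW R0 recs kk = true →
      ∀ k, kk ≤ k → k < kk + recs.length → (∀ j < k, Valid H v F j) → Valid H v F k := by
  intro recs
  induction recs with
  | nil => intro kk _ k h1 h2; simp at h2; omega
  | cons r recs ih =>
    intro kk h k h1 h2 hall
    have e0 : chunkG IV F RW R0 (r :: recs) kk =
        @Bool.rec (fun _ => Bool) false
          (forceN (Nat.succ kk) (fun kk' => chunkG IV F RW R0 recs kk')) (factG IV F RW R0 kk r) := rfl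
    rw [e0] at h
    obtain ⟨hf, h⟩ := boolRec_false_eq_true h
    rw [forceN_eq] at h
    rcases Nat.eq_or_lt_of_le h1 with h3 | h3
    · rw [← h3]
      exact factG_sound H v F IV hv15 hinv hiv15 hrel1 hrel2
        (fun j hj => hall j (lt_of_lt_of_le hj h1)) hf
    · have h4 : k < Nat.succ kk + recs.length := by
        rw [List.length_cons] at h2; omega
      exact ih (Nat.succ kk) h k h3 h4 hall

end Sound

end Cfsg.Agent.Lib.Helper12.TCG
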