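import Cfsg.Agent.Lib.Helper12.TCG.Parts
import Cfsg.Agent.Lib.Helper12.TC.Cox
import Cfsg.Prelude.Def_Spor_Fi24

/-!
The presentation of the Fischer group Fi24: numbering of the letters (`0, …, 11` for the generators
`l, k, a, b, c, d, e, f, g, j, h, i`, `12` for the word `w = d c b a k l d e f g j d h i` and `13` for its inverse),
the relators as words, and the universal property (helper12).
-/

set_option autoImplicit false
set_option linter.unusedSimpArgs false

namespace Cfsg.Agent.Lib.Helper12.TCG.Fi24Pres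

open Cfsg.Spor Cfsg.Agent.Lib.Helper12.TC Cfsg.Agent.Lib.Helper12.TCG

/-- the relators of the presentation -/
abbrev rels : Set (FreeGroup Fi24.Gen) := coxRelators Fi24.edges ∪ {r | r ∈ Fi24.extra}

/-- numbering of the generators -/
def gen : ℕ → Fi24.Gen
  | 0 => .l
  | 1 => .k
  | 2 => .a
  | 3 => .b
  | 4 => .c
  | 5 => .d
  | 6 => .e
  | 7 => .f
  | 8 => .g
  | 9 => .j
  | 10 => .h
  | _ => .i

/-- numbering of the generators -/
def idx : Fi24.Gen → ℕ
  | .l => 0
  | .k => 1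
  | .a => 2
  | .b => 3
  | .c => 4
  | .d => 5
  | .e => 6
  | .f => 7
  | .g => 8
  | .j => 9
  | .h => 10
  | .i => 11

theorem hidx : ∀ y, idx y < 12 ∧ gen (idx y) = y := by
  intro y
  cases y <;> exact ⟨by decide, rfl⟩

theorem hnodes : ∀ y : Fi24.Gen, y ∈ coxNodes Fi24.edges := by
  intro y
  cases y <;> decide

/-- the word `w` in the images of the generators -/
def wel {K : Type*} [Group K] (φ : Fi24.Gen → K) : K :=
  φ .d * φ .c * φ .b * φ .a * φ .k * φ .l * φ .d * φ .e * φ .f * φ .g * φ .j * φ .d * φ .h * φ .i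

/-- the letters as elements of a group, given the images of the generators -/
def vOf {K : Type*} [Group K] (φ : Fi24.Gen → K) : ℕ → K
  | 0 => φ .l
  | 1 => φ .k
  | 2 => φ .a
  | 3 => φ .b
  | 4 => φ .c
  | 5 => φ .d
  | 6 => φ .e
  | 7 => φ .f
  | 8 => φ .g
  | 9 => φ .j
  | 10 => φ .h
  | 11 => φ .i
  | 12 => wel φ
  | 13 => (wel φ)⁻¹
  | _ => 1

/-- the letters as elements of the presented group -/
noncomputable def v : ℕ → Fi24 := vOf (fun y => PresentedGroup.mk rels (FreeGroup.of y))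

/-- the inverse letters -/
def cIV : ℕ := 18360536419842404880

/-- the word `w` -/
def wW : List ℕ := [5, 4, 3, 2, 1, 0, 5, 6, 7, 8, 9, 5, 10, 11]

/-- the further relators as words -/
def extraWords : List (List ℕ) :=
  [[0, 10, 7, 6, 5, 4, 3, 2, 10, 7, 6, 5, 4, 3, 2, 10, 7, 6, 5, 4, 3, 2, 10, 7, 6, 5, 4, 3, 2, 10, 7, 6, 5, 4, 3, 2, 10, 7, 6, 5, 4, 3, 2, 10, 7, 6, 5, 4, 3, 2, 10, 7, 6, 5, 4, 3, 2, 10, 7, 6, 5, 4, 3, 2],
   [13, 5, 4, 3, 2, 1, 0, 5, 6, 7, 8, 9, 5, 10, 11],
   [12, 12, 12, 12, 12, 12, 12, 12, 12, 12, 12, 12, 12, 12, 12, 12, 12]]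

/-- the words of the letters and their inverses -/
def pairWords : List (List ℕ) :=
  [[0, 0], [1, 1], [2, 2], [3, 3], [4, 4], [5, 5], [6, 6], [7, 7], [8, 8], [9, 9], [10, 10], [11, 11],
   [12, 13], [13, 12]]

/-- the base words -/
def baseL : List (List ℕ) :=
  coxWords Fi24.edges gen 12 ++ (extraWords ++ (pairWords ++ [[]]))

section Hom

variable {K : Type*} [Group K] (φ : FreeGroup Fi24.Gen →* K)

theorem vOf_gen {i : ℕ} (hi : i < 12) :
    vOf (fun y => φ (FreeGroup.of y)) i = φ (FreeGroup.of (gen i)) := by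
  interval_cases i <;> rfl

theorem wprod_vOf_of_lt (l : List ℕ) (hl : ∀ s ∈ l, s < 12) :
    wprod (vOf (fun y => φ (FreeGroup.of y))) l = wprod (fun i => φ (FreeGroup.of (gen i))) l := by
  induction l with
  | nil => rfl
  | cons s l ih =>
    rw [wprod_cons, wprod_cons, ih (fun t ht => hl t (List.mem_cons_of_mem _ ht)),
      vOf_gen φ (hl s List.mem_cons_self)]

theorem wel_eq : wel (fun y => φ (FreeGroup.of y)) =
    φ (Fi24.d * Fi24.c * Fi24.b * Fi24.a * Fi24.k * Fi24.l * Fi24.d * Fi24.e * Fi24.f * Fi24.g * Fi24.j *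
      Fi24.d * Fi24.h * Fi24.i) := by
  simp only [wel, map_mul]

theorem wprod_wW : wprod (vOf (fun y => φ (FreeGroup.of y))) wW = wel (fun y => φ (FreeGroup.of y)) := by
  simp only [wW, wprod, List.map, List.prod_cons, List.prod_nil, mul_one, vOf, wel, mul_assoc]

theorem wprod_replicate {M : Type*} [Group M] (ψ : ℕ → M) (s k : ℕ) :
    wprod ψ (List.replicate k s) = ψ s ^ k := by
  induction k with
  | zero => rw [List.replicate_zero, wprod_nil, pow_zero]
  | succ k ih => rw [List.replicate_succ, wprod_cons, ih, pow_succ']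

set_option maxRecDepth 10000 in
set_option maxHeartbeats 1000000 in
/-- the further relators and their words -/
theorem hextra (hsq : ∀ y, φ (FreeGroup.of y) * φ (FreeGroup.of y) = 1) :
    (∀ r ∈ Fi24.extra, φ r = 1) ↔
      ∀ b ∈ extraWords, wprod (vOf (fun y => φ (FreeGroup.of y))) b = 1 := by
  have hi : ∀ y, (φ (FreeGroup.of y))⁻¹ = φ (FreeGroup.of y) :=
    fun y => inv_eq_of_mul_eq_one_left (hsq y)
  have e0 : φ (Fi24.l * (((Fi24.a * Fi24.b * Fi24.c * Fi24.d * Fi24.e * Fi24.f * Fi24.h) ^ 9)⁻¹)) =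
      wprod (vOf (fun y => φ (FreeGroup.of y))) [0, 10, 7, 6, 5, 4, 3, 2, 10, 7, 6, 5, 4, 3, 2, 10, 7, 6, 5, 4, 3, 2, 10, 7, 6, 5, 4, 3, 2, 10, 7, 6, 5, 4, 3, 2, 10, 7, 6, 5, 4, 3, 2, 10, 7, 6, 5, 4, 3, 2, 10, 7, 6, 5, 4, 3, 2, 10, 7, 6, 5, 4, 3, 2] := by
    simp only [map_mul, map_inv, mul_inv_rev, pow_succ, pow_zero, one_mul, hi,
      wprod, List.map, List.prod_cons, List.prod_nil, mul_one, mul_assoc, vOf, inv_inv]
  have e1 : wprod (vOf (fun y => φ (FreeGroup.of y))) [13, 5, 4, 3, 2, 1, 0, 5, 6, 7, 8, 9, 5, 10, 11] = 1 := by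
    have : ([13, 5, 4, 3, 2, 1, 0, 5, 6, 7, 8, 9, 5, 10, 11] : List ℕ) = 13 :: wW := rfl
    rw [this, wprod_cons, wprod_wW]
    exact inv_mul_cancel _
  have e2 : φ ((Fi24.d * Fi24.c * Fi24.b * Fi24.a * Fi24.k * Fi24.l * Fi24.d * Fi24.e * Fi24.f * Fi24.g *
      Fi24.j * Fi24.d * Fi24.h * Fi24.i) ^ 17) =
      wprod (vOf (fun y => φ (FreeGroup.of y))) [12, 12, 12, 12, 12, 12, 12, 12, 12, 12, 12, 12, 12, 12, 12, 12, 12] := by
    have : ([12, 12, 12, 12, 12, 12, 12, 12, 12, 12, 12, 12, 12, 12, 12, 12, 12] : List ℕ) = List.replicate 17 12 := rfl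
    rw [this, wprod_replicate, map_pow, ← wel_eq]
    rfl
  have hL : (∀ r ∈ Fi24.extra, φ r = 1) ↔
      (φ (Fi24.l * (((Fi24.a * Fi24.b * Fi24.c * Fi24.d * Fi24.e * Fi24.f * Fi24.h) ^ 9)⁻¹)) = 1 ∧
       φ ((Fi24.d * Fi24.c * Fi24.b * Fi24.a * Fi24.k * Fi24.l * Fi24.d * Fi24.e * Fi24.f * Fi24.g *
        Fi24.j * Fi24.d * Fi24.h * Fi24.i) ^ 17) = 1) := by
    show (∀ r ∈ [_, _], φ r = 1) ↔ _
    simp only [List.forall_mem_cons, List.not_mem_nil, false_imp_iff, implies_true, and_true]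
  have hR : (∀ b ∈ extraWords, wprod (vOf (fun y => φ (FreeGroup.of y))) b = 1) ↔
      (wprod (vOf (fun y => φ (FreeGroup.of y))) [0, 10, 7, 6, 5, 4, 3, 2, 10, 7, 6, 5, 4, 3, 2, 10, 7, 6, 5, 4, 3, 2, 10, 7, 6, 5, 4, 3, 2, 10, 7, 6, 5, 4, 3, 2, 10, 7, 6, 5, 4, 3, 2, 10, 7, 6, 5, 4, 3, 2, 10, 7, 6, 5, 4, 3, 2, 10, 7, 6, 5, 4, 3, 2] = 1 ∧
       wprod (vOf (fun y => φ (FreeGroup.of y))) [13, 5, 4, 3, 2, 1, 0, 5, 6, 7, 8, 9, 5, 10, 11] = 1 ∧
       wprod (vOf (fun y => φ (FreeGroup.of y))) [12, 12, 12, 12, 12, 12, 12, 12, 12, 12, 12, 12, 12, 12, 12, 12, 12] = 1) := by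
    show (∀ b ∈ [_, _, _], _) ↔ _
    simp only [List.forall_mem_cons, List.not_mem_nil, false_imp_iff, implies_true, and_true]
  rw [hL, hR, e0, e2]
  constructor
  · rintro ⟨h1, h2⟩
    exact ⟨h1, e1, h2⟩
  · rintro ⟨h1, _, h2⟩
    exact ⟨h1, h2⟩

/-- the words of the letters and their inverses -/
theorem hpairs (hsq : ∀ y, φ (FreeGroup.of y) * φ (FreeGroup.of y) = 1) :
    ∀ b ∈ pairWords, wprod (vOf (fun y => φ (FreeGroup.of y))) b = 1 := by
  intro b hb
  simp only [pairWords, List.mem_cons, List.not_mem_nil, or_false] at hb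
  rcases hb with rfl | rfl | rfl | rfl | rfl | rfl | rfl | rfl | rfl | rfl | rfl | rfl | rfl | rfl
  · rw [wprod_cons, wprod_cons, wprod_nil, mul_one]; exact hsq _
  · rw [wprod_cons, wprod_cons, wprod_nil, mul_one]; exact hsq _
  · rw [wprod_cons, wprod_cons, wprod_nil, mul_one]; exact hsq _
  · rw [wprod_cons, wprod_cons, wprod_nil, mul_one]; exact hsq _
  · rw [wprod_cons, wprod_cons, wprod_nil, mul_one]; exact hsq _
  · rw [wprod_cons, wprod_cons, wprod_nil, mul_one]; exact hsq _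
  · rw [wprod_cons, wprod_cons, wprod_nil, mul_one]; exact hsq _
  · rw [wprod_cons, wprod_cons, wprod_nil, mul_one]; exact hsq _
  · rw [wprod_cons, wprod_cons, wprod_nil, mul_one]; exact hsq _
  · rw [wprod_cons, wprod_cons, wprod_nil, mul_one]; exact hsq _
  · rw [wprod_cons, wprod_cons, wprod_nil, mul_one]; exact hsq _
  · rw [wprod_cons, wprod_cons, wprod_nil, mul_one]; exact hsq _
  · rw [wprod_cons, wprod_cons, wprod_nil, mul_one]; exact mul_inv_cancel _
  · rw [wprod_cons, wprod_cons, wprod_nil, mul_one]; exact inv_mul_cancel _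

theorem coxWords_lt : ∀ b ∈ coxWords Fi24.edges gen 12, ∀ s ∈ b, s < 12 := by
  have : lettersK 12 (coxWords Fi24.edges gen 12) = true := by decide
  exact fun b hb s hs => lettersK_lt this hb hs

/-- the base words, for a homomorphism which kills the relators -/
theorem base_of_hom (hr : ∀ r ∈ rels, φ r = 1) :
    ∀ b ∈ baseL, wprod (vOf (fun y => φ (FreeGroup.of y))) b = 1 := by
  have hcox : ∀ r ∈ coxRelators Fi24.edges, φ r = 1 := fun r h => hr r (Or.inl h)
  have hext : ∀ r ∈ Fi24.extra, φ r = 1 := fun r h => hr r (Or.inr h)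
  have hsq : ∀ y, φ (FreeGroup.of y) * φ (FreeGroup.of y) = 1 :=
    fun y => cox_sq_of_hom Fi24.edges φ hnodes hcox y
  intro b hb
  rcases List.mem_append.mp hb with h | h
  · rw [wprod_vOf_of_lt φ b (coxWords_lt b h)]
    exact cox_words_of_hom Fi24.edges gen φ 12 hnodes hcox b h
  · rcases List.mem_append.mp h with h | h
    · exact (hextra φ hsq).mp hext b h
    · rcases List.mem_append.mp h with h | h
      · exact hpairs φ hsq b h
      · rw [List.mem_singleton.mp h]; rfl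

end Hom

theorem hiv : ivK cIV 14 = true := by decide

theorem hbase : ∀ b ∈ baseL, wprod v b = 1 :=
  base_of_hom (PresentedGroup.mk rels) (fun _ hr => PresentedGroup.one_of_mem hr)

theorem hlet : lettersK 14 baseL = true := by decide

theorem hvge : ∀ s, ¬ s < 14 → v s = 1 := by
  intro s hs
  have : 14 ≤ s := Nat.le_of_not_lt hs
  obtain ⟨t, rfl⟩ := Nat.exists_eq_add_of_le this
  rw [Nat.add_comm]
  rfl

theorem hvinv : ∀ s < 14, v (invS cIV s) = (v s)⁻¹ := by
  have hcox : ∀ r ∈ coxRelators Fi24.edges, PresentedGroup.mk rels r = 1 :=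
    fun r h => PresentedGroup.one_of_mem (Or.inl h)
  have hsq : ∀ y, PresentedGroup.mk rels (FreeGroup.of y) * PresentedGroup.mk rels (FreeGroup.of y) = 1 :=
    fun y => cox_sq_of_hom Fi24.edges (PresentedGroup.mk rels) hnodes hcox y
  intro s hs
  interval_cases s
  · exact (inv_eq_of_mul_eq_one_left (hsq _)).symm
  · exact (inv_eq_of_mul_eq_one_left (hsq _)).symm
  · exact (inv_eq_of_mul_eq_one_left (hsq _)).symm
  · exact (inv_eq_of_mul_eq_one_left (hsq _)).symm
  · exact (inv_eq_of_mul_eq_one_left (hsq _)).symm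
  · exact (inv_eq_of_mul_eq_one_left (hsq _)).symm
  · exact (inv_eq_of_mul_eq_one_left (hsq _)).symm
  · exact (inv_eq_of_mul_eq_one_left (hsq _)).symm
  · exact (inv_eq_of_mul_eq_one_left (hsq _)).symm
  · exact (inv_eq_of_mul_eq_one_left (hsq _)).symm
  · exact (inv_eq_of_mul_eq_one_left (hsq _)).symm
  · exact (inv_eq_of_mul_eq_one_left (hsq _)).symm
  · rfl
  · exact (inv_inv _).symm

theorem hgen : ∀ γ : Fi24, γ ∈ Subgroup.closure {y | ∃ x < 14, y = v x} := by
  intro γ
  have : Subgroup.closure {y : Fi24 | ∃ x < 14, y = v x} = ⊤ := by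
    rw [eq_top_iff, ← PresentedGroup.closure_range_of rels]
    apply Subgroup.closure_mono
    rintro _ ⟨y, rfl⟩
    refine ⟨idx y, ?_, ?_⟩
    · cases y <;> decide
    · cases y <;> rfl
  rw [this]
  trivial

/-- the universal property of the presented group -/
theorem hlift {N : ℕ} (f : ℕ → Equiv.Perm (Fin N)) (hf : ∀ s < 14, f (invS cIV s) = (f s)⁻¹)
    (hw : ∀ b ∈ baseL, wprod f b = 1) :
    ∃ ρ : Fi24 →* Equiv.Perm (Fin N), ∀ x < 14, ρ (v x) = f x := by
  let φ : FreeGroup Fi24.Gen →* Equiv.Perm (Fin N) := FreeGroup.lift (fun y => f (idx y))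
  have hφ : ∀ y, φ (FreeGroup.of y) = f (idx y) := fun y => FreeGroup.lift_apply_of
  have h13 : f 13 = (f 12)⁻¹ := hf 12 (by decide)
  have hvf12 : ∀ i < 12, vOf (fun y => φ (FreeGroup.of y)) i = f i := by
    intro i hi
    interval_cases i <;> exact hφ _
  have hwv12 : ∀ l : List ℕ, (∀ s ∈ l, s < 12) →
      wprod (vOf (fun y => φ (FreeGroup.of y))) l = wprod f l := by
    intro l
    induction l with
    | nil => intro _; rfl
    | cons s l ih =>
      intro hl
      rw [wprod_cons, wprod_cons, ih (fun t ht => hl t (List.mem_cons_of_mem _ ht)),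
        hvf12 s (hl s List.mem_cons_self)]
  have hwel : wel (fun y => φ (FreeGroup.of y)) = f 12 := by
    rw [← wprod_wW, hwv12 wW (by decide)]
    have h1 := hw (13 :: wW) (by decide)
    rw [wprod_cons, h13] at h1
    exact (inv_mul_eq_one.mp h1).symm
  have hvf : ∀ i < 14, vOf (fun y => φ (FreeGroup.of y)) i = f i := by
    intro i hi
    by_cases h12 : i < 12
    · exact hvf12 i h12
    · have : i = 12 ∨ i = 13 := by omega
      rcases this with rfl | rfl
      · exact hwel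
      · show (wel (fun y => φ (FreeGroup.of y)))⁻¹ = f 13
        rw [hwel, h13]
  have hwv : ∀ l : List ℕ, (∀ s ∈ l, s < 14) →
      wprod (vOf (fun y => φ (FreeGroup.of y))) l = wprod f l := by
    intro l
    induction l with
    | nil => intro _; rfl
    | cons s l ih =>
      intro hl
      rw [wprod_cons, wprod_cons, ih (fun t ht => hl t (List.mem_cons_of_mem _ ht)),
        hvf s (hl s List.mem_cons_self)]
  have hw' : ∀ b ∈ baseL, wprod (vOf (fun y => φ (FreeGroup.of y))) b = 1 := by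
    intro b hb
    rw [hwv b (fun s hs => lettersK_lt hlet hb hs)]
    exact hw b hb
  have hsq : ∀ y, φ (FreeGroup.of y) * φ (FreeGroup.of y) = 1 := by
    intro y
    obtain ⟨hi, hy⟩ := hidx y
    have h1 := hw' [idx y, idx y] (by
      cases y <;> decide)
    rw [wprod_cons, wprod_cons, wprod_nil, mul_one, vOf_gen φ hi, hy] at h1
    exact h1
  have hrel : ∀ r ∈ rels, φ r = 1 := by
    intro r hr
    rcases hr with hr | hr
    · refine cox_hom_of_words Fi24.edges gen φ 12 (fun y => ⟨idx y, (hidx y).1, (hidx y).2⟩) hsq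
        (fun b hb => ?_) r hr
      rw [← wprod_vOf_of_lt φ b (coxWords_lt b hb)]
      exact hw' b (List.mem_append_left _ hb)
    · exact (hextra φ hsq).mpr (fun b hb =>
        hw' b (List.mem_append_right _ (List.mem_append_left _ hb))) r hr
  refine ⟨PresentedGroup.toGroup hrel, ?_⟩
  have hof : ∀ y, PresentedGroup.toGroup hrel (PresentedGroup.mk rels (FreeGroup.of y)) = f (idx y) :=
    fun y => PresentedGroup.toGroup.of hrel
  have hρ : ∀ i < 12, PresentedGroup.toGroup hrel (v i) = f i := by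
    intro i hi
    interval_cases i <;> exact hof _
  have hρw : PresentedGroup.toGroup hrel (v 12) = f 12 := by
    show PresentedGroup.toGroup hrel (wel (fun y => PresentedGroup.mk rels (FreeGroup.of y))) = f 12
    rw [← hwel]
    simp only [wel, map_mul, hof, hφ]
  intro x hx
  by_cases h12 : x < 12
  · exact hρ x h12
  · have : x = 12 ∨ x = 13 := by omega
    rcases this with rfl | rfl
    · exact hρw
    · show PresentedGroup.toGroup hrel ((v 12)⁻¹) = f 13
      rw [map_inv, hρw, h13]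

end Cfsg.Agent.Lib.Helper12.TCG.Fi24Pres
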