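import Cfsg.Agent.Lib.Helper12.TCG.Core
import Cfsg.Agent.Lib.Helper12.TC.Fn.Index

/-!
Coset enumeration certificates for generators with inverses: validity of all facts, the final table, the
index of the subgroup and the permutation representation (helper12).
-/

set_option autoImplicit false

namespace Cfsg.Agent.Lib.Helper12.TCG

open Cfsg.Agent.Lib.Helper12.TC

/-- the inverse letters: below `g` an involution of the letters below `g`, the identity from `g` on -/
def ivK (IV g : ℕ) : Bool :=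
  allBelowK 16 (fun s => @Bool.rec (fun _ => Bool) (Nat.beq (invS IV s) s)
    (Nat.blt (invS IV s) g && Nat.beq (invS IV (invS IV s)) s) (Nat.blt s g))

theorem ivK_lt {IV g : ℕ} (h : ivK IV g = true) {s : ℕ} (hs : s < g) (hg : g ≤ 16) :
    invS IV s < g ∧ invS IV (invS IV s) = s := by
  have h1 := (allBelowK_iff 16 _).mp h s (by omega)
  have h2 : Nat.blt s g = true := Nat.ble_eq_true_of_le hs
  rw [h2] at h1
  have h3 : (Nat.blt (invS IV s) g && Nat.beq (invS IV (invS IV s)) s) = true := h1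
  rw [Bool.and_eq_true] at h3
  exact ⟨Nat.le_of_ble_eq_true h3.1, Nat.eq_of_beq_eq_true h3.2⟩

theorem ivK_ge {IV g : ℕ} (h : ivK IV g = true) {s : ℕ} (hs : ¬ s < g) (hs16 : s < 16) :
    invS IV s = s := by
  have h1 := (allBelowK_iff 16 _).mp h s hs16
  have h2 : Nat.blt s g = false := by
    cases h3 : Nat.blt s g
    · rfl
    · exact absurd (Nat.le_of_ble_eq_true h3) hs
  rw [h2] at h1
  exact Nat.eq_of_beq_eq_true h1

/-- the chunks cover the facts from `D` up to `K` and are valid -/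
theorem chunks_valid {G : Type*} [Group G] (H : Subgroup G) (v : ℕ → G) (F : ℕ → ℕ) (IV : ℕ)
    (hv15 : v 15 = 1) (hinv : ∀ s, s < 16 → v (invS IV s) = (v s)⁻¹) (hiv15 : invS IV 15 = 15)
    {RW R0 : ℕ}
    (hrel1 : ∀ rid < R0, wprod v (unpack (relW RW rid)) = 1)
    (hrel2 : ∀ rid, wprod v (unpack (relW RW rid)) ∈ H)
    (chunks : List (ℕ × List ℕ)) (K : ℕ) :
    ∀ D : ℕ, (∀ c ∈ chunks, chunkG IV F RW R0 c.2 c.1 = true) → coverK D K chunks = true →
      ∀ k, D ≤ k → k < K → (∀ j < k, Valid H v F j) → Valid H v F k := by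
  induction chunks with
  | nil =>
    intro D _ hc k h1 h2
    have : D = K := Nat.eq_of_beq_eq_true hc
    omega
  | cons c chunks ih =>
    intro D hall hc k h1 h2 hv
    have e : coverK D K (c :: chunks) =
        (Nat.beq c.1 D && coverK (Nat.add D c.2.length) K chunks) := rfl
    rw [e, Bool.and_eq_true] at hc
    have e1 : c.1 = D := Nat.eq_of_beq_eq_true hc.1
    by_cases hk : k < D + c.2.length
    · have h3 := hall c List.mem_cons_self
      rw [e1] at h3
      exact chunkG_sound H v F IV hv15 hinv hiv15 hrel1 hrel2 c.2 D h3 k h1 hk hv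
    · exact ih (Nat.add D c.2.length) (fun c' hc' => hall c' (List.mem_cons_of_mem _ hc')) hc.2 k
        (Nat.le_of_not_lt hk) h2 hv

/-- the column `x` of the table maps `[0, N)` to itself with the inverse map the column of the
inverse letter -/
def permOneG (IV : ℕ) (TT : ℕ → ℕ → ℕ) (x N : ℕ) : Bool :=
  forceN (invS IV x) fun y => allBelowK N (fun i => Nat.blt (TT x i) N && Nat.beq (TT y (TT x i)) i)

/-- the columns `x < g` of the table -/
def permG (IV : ℕ) (TT : ℕ → ℕ → ℕ) (g N : ℕ) : Bool :=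
  allBelowK g (fun x => permOneG IV TT x N)

theorem permG_of_ones {IV : ℕ} {TT : ℕ → ℕ → ℕ} {g N : ℕ} (h : ∀ x < g, permOneG IV TT x N = true) :
    permG IV TT g N = true :=
  (allBelowK_iff g _).mpr h

theorem permG_lt {IV : ℕ} {TT : ℕ → ℕ → ℕ} {g N : ℕ} (hperm : permG IV TT g N = true) {x i : ℕ}
    (hx : x < g) (hi : i < N) : TT x i < N := by
  have h0 := (allBelowK_iff g _).mp hperm x hx
  unfold permOneG at h0
  rw [forceN_eq] at h0
  have h1 := (allBelowK_iff N _).mp h0 i hi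
  rw [Bool.and_eq_true] at h1
  exact Nat.le_of_ble_eq_true h1.1

theorem permG_inv {IV : ℕ} {TT : ℕ → ℕ → ℕ} {g N : ℕ} (hperm : permG IV TT g N = true) {x i : ℕ}
    (hx : x < g) (hi : i < N) : TT (invS IV x) (TT x i) = i := by
  have h0 := (allBelowK_iff g _).mp hperm x hx
  unfold permOneG at h0
  rw [forceN_eq] at h0
  have h1 := (allBelowK_iff N _).mp h0 i hi
  rw [Bool.and_eq_true] at h1
  exact Nat.eq_of_beq_eq_true h1.2

/-- the permutation of the points given by column `x` of the table -/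
noncomputable def pT {IV : ℕ} {TT : ℕ → ℕ → ℕ} {g N : ℕ} (hg : g ≤ 16) (hiv : ivK IV g = true)
    (hperm : permG IV TT g N = true) (x : ℕ) : Equiv.Perm (Fin N) :=
  if hx : x < g then
    { toFun := fun i => ⟨TT x i.val, permG_lt hperm hx i.isLt⟩
      invFun := fun i => ⟨TT (invS IV x) i.val, permG_lt hperm (ivK_lt hiv hx hg).1 i.isLt⟩
      left_inv := fun i => Fin.ext (permG_inv hperm hx i.isLt)
      right_inv := fun i => Fin.ext (by
        have h1 := permG_inv hperm (ivK_lt hiv hx hg).1 i.isLt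
        rw [(ivK_lt hiv hx hg).2] at h1
        exact h1) }
  else 1

theorem pT_apply {IV : ℕ} {TT : ℕ → ℕ → ℕ} {g N : ℕ} (hg : g ≤ 16) (hiv : ivK IV g = true)
    (hperm : permG IV TT g N = true) {x : ℕ} (hx : x < g) (i : Fin N) :
    ((pT hg hiv hperm x i : Fin N) : ℕ) = TT x i.val := by
  rw [pT, dif_pos hx]; rfl

theorem pT_inv {IV : ℕ} {TT : ℕ → ℕ → ℕ} {g N : ℕ} (hg : g ≤ 16) (hiv : ivK IV g = true)
    (hperm : permG IV TT g N = true) {x : ℕ} (hx : x < g) :
    pT hg hiv hperm (invS IV x) = (pT hg hiv hperm x)⁻¹ := by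
  apply Equiv.ext
  intro i
  rw [Equiv.Perm.eq_inv_iff_eq]
  apply Fin.ext
  rw [pT_apply hg hiv hperm hx, pT_apply hg hiv hperm (ivK_lt hiv hx hg).1]
  have h1 := permG_inv hperm (ivK_lt hiv hx hg).1 i.isLt
  rw [(ivK_lt hiv hx hg).2] at h1
  exact h1

/-- the fact with code `c` (number below `K`) says `p · x = q` with `q` live -/
def finOneG (IV : ℕ) (F : ℕ → ℕ) (LIVE c K p x : ℕ) : Bool :=
  Nat.blt (Nat.shiftRight c 1) K &&
    forceN (F (Nat.shiftRight c 1)) (fun e =>
      Nat.beq (oSrc e (Nat.land c 1)) p &&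
        (Nat.beq (symO IV e (Nat.land c 1)) x && bitK LIVE (oDst e (Nat.land c 1))))

/-- one record of the final table: 20 bits label, then `g` codes of 24 bits -/
def finRecG (IV : ℕ) (F : ℕ → ℕ) (LIVE K g rec : ℕ) : Bool :=
  allBelowK g (fun x =>
    forceN (Nat.land (Nat.shiftRight rec (Nat.add 20 (Nat.mul 24 x))) 16777215) (fun c =>
      finOneG IV F LIVE c K (Nat.land rec 1048575) x))

/-- the final table: the label `0` is live, and for every live label `p` and letter `x < g` a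
listed fact says `p · x = q` with `q` live -/
def finG (IV : ℕ) (F : ℕ → ℕ) (K g : ℕ) (recs : List ℕ) : Bool :=
  bitK (liveK recs) 0 && allListK recs (fun rec => finRecG IV F (liveK recs) K g rec)

section Main

variable {G : Type*} [Group G] (H : Subgroup G) (v : ℕ → G) (F : ℕ → ℕ) (IV : ℕ)
variable (hinv : ∀ s, s < 16 → v (invS IV s) = (v s)⁻¹)
variable {TT : ℕ → ℕ → ℕ} {g N K : ℕ}

include hinv in
theorem covering {recs : List ℕ} (hg : g ≤ 16) (hiv : ivK IV g = true)
    (hvalid : ∀ k < K, Valid H v F k)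
    (hfin : finG IV F K g recs = true)
    (hgen : ∀ γ : G, γ ∈ Subgroup.closure {y | ∃ x < g, y = v x}) :
    ∀ γ : G, ∃ ℓ ∈ repsOf recs, tau v F ℓ * γ⁻¹ ∈ H := by
  unfold finG at hfin
  rw [Bool.and_eq_true] at hfin
  have h0 : 0 ∈ repsOf recs := (bitK_liveK recs 0).mp hfin.1
  have key : ∀ ℓ ∈ repsOf recs, ∀ x < g, ∃ ℓ' ∈ repsOf recs,
      tau v F ℓ * v x * (tau v F ℓ')⁻¹ ∈ H := by
    intro ℓ hℓ x hx
    obtain ⟨rec, hrec, rfl⟩ := List.mem_map.mp hℓ
    have h1 := (allBelowK_iff g _).mp ((allListK_iff recs _).mp hfin.2 rec hrec) x hx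
    rw [forceN_eq] at h1
    unfold finOneG at h1
    simp only [forceN_eq, Bool.and_eq_true] at h1
    obtain ⟨h2, h3, h4, h5⟩ := h1
    set c := Nat.land (Nat.shiftRight rec (Nat.add 20 (Nat.mul 24 x))) 16777215 with hc
    have h2' : Nat.shiftRight c 1 < K := Nat.le_of_ble_eq_true h2
    have hv := valid_oriented H v F IV hinv c (hvalid _ h2')
    rw [Nat.eq_of_beq_eq_true h3, Nat.eq_of_beq_eq_true h4] at hv
    exact ⟨_, (bitK_liveK recs _).mp h5, hv⟩
  have step : ∀ (γ : G) (x : ℕ), x < g → (∃ ℓ ∈ repsOf recs, tau v F ℓ * γ⁻¹ ∈ H) →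
      ∃ ℓ ∈ repsOf recs, tau v F ℓ * (γ * v x)⁻¹ ∈ H := by
    rintro γ x hx ⟨ℓ, hℓ, hmem⟩
    obtain ⟨ℓ', hℓ', hf⟩ := key ℓ hℓ x hx
    refine ⟨ℓ', hℓ', ?_⟩
    have := H.mul_mem (H.inv_mem hf) hmem
    convert this using 1
    group
  intro γ
  refine Subgroup.closure_induction_right
    (p := fun γ _ => ∃ ℓ ∈ repsOf recs, tau v F ℓ * γ⁻¹ ∈ H) ?_ ?_ ?_ (hgen γ)
  · refine ⟨0, h0, ?_⟩
    rw [tau_zero, inv_one, mul_one]; exact H.one_mem
  · rintro γ _ y ⟨x, hx, rfl⟩ ih
    exact step γ x hx ih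
  · rintro γ _ y ⟨x, hx, rfl⟩ ih
    have : (v x)⁻¹ = v (invS IV x) := (hinv x (by omega)).symm
    rw [this]
    exact step γ (invS IV x) (ivK_lt hiv hx hg).1 ih

variable (ρ : G →* Equiv.Perm (Fin N))
variable (hρ : ∀ x < g, ∀ i : Fin N, ((ρ (v x) i : Fin N) : ℕ) = TT x i)
variable {sw : List (List ℕ)}
variable (hH : H = Subgroup.closure {γ | ∃ w ∈ sw, γ = wprod v w})

include hinv hρ hH in
/-- The index of `H` is `N`, and the cosets of `H` correspond to the points. -/
theorem index_and_equiv {recs : List ℕ} (hg : g ≤ 16) (hiv : ivK IV g = true)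
    (hvalid : ∀ k < K, Valid H v F k)
    (hfin : finG IV F K g recs = true) (hlen : recs.length = N) (hN : 0 < N)
    (hgen : ∀ γ : G, γ ∈ Subgroup.closure {y | ∃ x < g, y = v x})
    (hsub : Fn.subK TT g sw = true) (htrans : Fn.transK TT g N sw = true) :
    H.index = N ∧ ∃ Φ : G ⧸ H ≃ Fin N, ∀ γ : G, Φ (γ : G ⧸ H) = ρ γ ⟨0, hN⟩ := by
  have hcov := covering H v F IV hinv hg hiv hvalid hfin hgen
  have hfix := Fn.fix_zero H v ρ hρ hH hsub hN
  have htr := Fn.transitive v ρ hρ hsub htrans hN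
  let Ψ : G ⧸ H → Fin N := Quotient.lift (fun γ : G => ρ γ ⟨0, hN⟩) (by
    intro a b hab
    have h1 : a⁻¹ * b ∈ H := QuotientGroup.leftRel_apply.mp hab
    have h2 := hfix _ h1
    show ρ a ⟨0, hN⟩ = ρ b ⟨0, hN⟩
    have h3 : b = a * (a⁻¹ * b) := by group
    rw [h3, map_mul, Equiv.Perm.mul_apply, h2])
  have hΨ : ∀ γ : G, Ψ (γ : G ⧸ H) = ρ γ ⟨0, hN⟩ := fun γ => rfl
  have hsurj : Function.Surjective Ψ := by
    intro i
    obtain ⟨γ, hγ⟩ := htr i
    exact ⟨(γ : G ⧸ H), hγ⟩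
  let Θ : Fin (repsOf recs).length → G ⧸ H :=
    fun i => (((tau v F ((repsOf recs).get i))⁻¹ : G) : G ⧸ H)
  have hΘ : Function.Surjective Θ := by
    intro q
    induction q using QuotientGroup.induction_on with
    | H γ =>
      obtain ⟨ℓ, hℓ, hmem⟩ := hcov γ⁻¹
      obtain ⟨i, hi⟩ := List.mem_iff_get.mp hℓ
      refine ⟨i, ?_⟩
      show (((tau v F ((repsOf recs).get i))⁻¹ : G) : G ⧸ H) = (γ : G ⧸ H)
      rw [QuotientGroup.eq, hi]
      rw [inv_inv] at hmem ⊢
      exact hmem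
  have hfinite : Finite (G ⧸ H) := Finite.of_surjective Θ hΘ
  have hle : Nat.card (G ⧸ H) ≤ N := by
    have := Nat.card_le_card_of_surjective Θ hΘ
    rw [Nat.card_fin] at this
    have h2 : (repsOf recs).length = N := by
      rw [← hlen]; exact List.length_map _
    rwa [h2] at this
  have hbij : Function.Bijective Ψ :=
    hsurj.bijective_of_nat_card_le (by rw [Nat.card_fin]; exact hle)
  refine ⟨?_, Equiv.ofBijective Ψ hbij, hΨ⟩
  have h1 := Nat.card_congr (Equiv.ofBijective Ψ hbij)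
  rw [Nat.card_fin] at h1
  exact h1

end Main

end Cfsg.Agent.Lib.Helper12.TCG
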