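import Cfsg.Agent.Lib.Helper12.TCG.WPres

/-!
The presentation of the first group of Janko on `a`, `b` with `a^2 = b^3 = (ab)^7 = 1` and two further relators;
the letters are `0` for `a`, `1` for `b` and `2` for the inverse of `b` (helper12).
-/

set_option autoImplicit false
set_option maxRecDepth 100000

namespace Cfsg.Agent.Lib.Helper12.TCG.J1Pres

open Cfsg.Agent.Lib.Helper12.TC Cfsg.Agent.Lib.Helper12.TCG

/-- the base words: the relators, the letters with their inverses, the empty word -/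
def baseL : List (List ℕ) :=
  [[1, 1, 1],
   [0, 1, 0, 1, 0, 1, 0, 1, 0, 1, 0, 1, 0, 1],
   [0, 1, 0, 1, 0, 2, 0, 1, 0, 2, 0, 1, 0, 2, 0, 1, 0, 1, 0, 2, 0, 1, 0, 2, 0, 1, 0, 2, 0, 1, 0, 1, 0, 2, 0, 1, 0, 2, 0, 1, 0, 2, 0, 1, 0, 1, 0, 2, 0, 1, 0, 2, 0, 1, 0, 2, 0, 1, 0, 1, 0, 2, 0, 1, 0, 2, 0, 1, 0, 2],
   [0, 1, 0, 1, 0, 2, 0, 1, 0, 2, 0, 1, 0, 2, 0, 1, 0, 2, 0, 1, 0, 2, 0, 1, 0, 2, 0, 1, 0, 1, 0, 2, 0, 2, 0, 1, 0, 1, 0, 2, 0, 1, 0, 2, 0, 1, 0, 2, 0, 1, 0, 2, 0, 1, 0, 2, 0, 1, 0, 2, 0, 1, 0, 1, 0, 2, 0, 2],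
   [0, 0],
   [1, 2],
   [2, 1],
   []]

/-- the inverse letters -/
def cIV : ℕ := 18364758544493064480

/-- the presented group -/
abbrev Grp : Type := WPres.Grp 3 baseL

/-- the letters as elements of the presented group -/
def v : ℕ → Grp := WPres.v 3 baseL

theorem hiv : ivK cIV 3 = true := by decide

theorem hlet : lettersK 3 baseL = true := by decide

theorem hbase : ∀ b ∈ baseL, wprod v b = 1 := WPres.hbase 3 baseL

theorem hvge : ∀ s, ¬ s < 3 → v s = 1 := WPres.hvge 3 baseL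

theorem hvinv : ∀ s < 3, v (invS cIV s) = (v s)⁻¹ :=
  WPres.hvinv 3 baseL cIV (by decide)

theorem hgen : ∀ γ : Grp, γ ∈ Subgroup.closure {y | ∃ x < 3, y = v x} := WPres.hgen 3 baseL

theorem hlift {N : ℕ} (f : ℕ → Equiv.Perm (Fin N)) (hf : ∀ s < 3, f (invS cIV s) = (f s)⁻¹)
    (hw : ∀ b ∈ baseL, wprod f b = 1) :
    ∃ ρ : Grp →* Equiv.Perm (Fin N), ∀ x < 3, ρ (v x) = f x :=
  WPres.hliftPerm 3 baseL hlet cIV f hf hw

/-- the universal property -/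
theorem hliftG {K : Type*} [Group K] (f : ℕ → K) (hw : ∀ b ∈ baseL, wprod f b = 1) :
    ∃ ρ : Grp →* K, ∀ x < 3, ρ (v x) = f x :=
  WPres.hlift 3 baseL hlet f hw

theorem v_two : v 2 = (v 1)⁻¹ := hvinv 1 (by decide)

theorem v_zero_sq : v 0 * v 0 = 1 := by
  have h := hbase [0, 0] (by decide)
  rwa [wprod_cons, wprod_cons, wprod_nil, mul_one] at h

end Cfsg.Agent.Lib.Helper12.TCG.J1Pres
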