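import Cfsg.Agent.Lib.Helper12.TCG.Index
import Cfsg.Agent.Lib.Helper12.TC.Fn.Main

/-!
Coset enumeration certificates for generators with inverses: the main theorem, for a group with generators
`v x`, `x < g`, closed under inverses, which has the universal property of a presented group with respect to
permutations of the points (helper12).
-/

set_option autoImplicit false

namespace Cfsg.Agent.Lib.Helper12.TCG

open Cfsg.Agent.Lib.Helper12.TC

set_option maxHeartbeats 1000000 in
/-- the index of the subgroup and the permutation representation on its cosets -/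
theorem main_rho {G : Type*} [Group G] (v : ℕ → G) (g IV : ℕ) (hg : g ≤ 15)
    (hiv : ivK IV g = true)
    (hvinv : ∀ s < g, v (invS IV s) = (v s)⁻¹) (hvge : ∀ s, ¬ s < g → v s = 1)
    (hgen : ∀ γ : G, γ ∈ Subgroup.closure {y | ∃ x < g, y = v x})
    (baseL : List (List ℕ)) (hbase : ∀ b ∈ baseL, wprod v b = 1) (hlet : lettersK g baseL = true)
    (sw : List (List ℕ)) (H : Subgroup G)
    (hH : H = Subgroup.closure {γ | ∃ w ∈ sw, γ = wprod v w})
    (F : ℕ → ℕ) (RW : ℕ) (finrecs : List ℕ) (TT : ℕ → ℕ → ℕ) (rotW : List (ℕ × ℕ))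
    (chunks : List (ℕ × List ℕ)) (D K R0 R N : ℕ)
    (hdefs : defsK F D = true)
    (hchunks : ∀ c ∈ chunks, chunkG IV F RW R0 c.2 c.1 = true)
    (hcover : coverK D K chunks = true)
    (hrelc : relCheckK RW R0 R baseL rotW sw = true)
    (hperm : permG IV TT g N = true)
    (hlift : ∀ f : ℕ → Equiv.Perm (Fin N), (∀ s < g, f (invS IV s) = (f s)⁻¹) →
      (∀ b ∈ baseL, wprod f b = 1) → ∃ ρ : G →* Equiv.Perm (Fin N), ∀ x < g, ρ (v x) = f x)
    (hrels : Fn.relsK TT N baseL = true)
    (hsub : Fn.subK TT g sw = true) (htrans : Fn.transK TT g N sw = true)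
    (hfin : finG IV F K g finrecs = true) (hlen : finrecs.length = N) (hN : 0 < N) :
    ∃ ρ : G →* Equiv.Perm (Fin N),
      (∀ x < g, ∀ i : Fin N, ((ρ (v x) i : Fin N) : ℕ) = TT x i) ∧
      H.index = N ∧ ∃ Φ : G ⧸ H ≃ Fin N, ∀ γ : G, Φ (γ : G ⧸ H) = ρ γ ⟨0, hN⟩ := by
  have hg16 : g ≤ 16 := by omega
  have hv15 : v 15 = 1 := hvge 15 (by omega)
  have hiv15 : invS IV 15 = 15 := ivK_ge hiv (by omega) (by decide)
  have hinv : ∀ s, s < 16 → v (invS IV s) = (v s)⁻¹ := by
    intro s hs16
    by_cases hs : s < g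
    · exact hvinv s hs
    · rw [ivK_ge hiv hs hs16, hvge s hs, inv_one]
  have hswl : ∀ w ∈ sw, ∀ s ∈ w, s < g := by
    intro w hw s hs
    have h5 := (allListK_iff sw _).mp hsub w hw
    rw [Bool.and_eq_true] at h5
    exact Nat.le_of_ble_eq_true ((allListK_iff w _).mp h5.1 s hs)
  have hswH : ∀ w ∈ sw, wprod v w ∈ H := by
    intro w hw
    rw [hH]
    exact Subgroup.subset_closure ⟨w, hw, rfl⟩
  have hlet15 : ∀ L : List (List ℕ), lettersK g L = true → lettersK 15 L = true := by
    intro L hL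
    refine (allListK_iff L _).mpr (fun w hw => (allListK_iff w _).mpr (fun s hs => ?_))
    have : s < g := lettersK_lt hL hw hs
    exact Nat.ble_eq_true_of_le (by omega)
  have hletsw : lettersK g sw = true :=
    (allListK_iff sw _).mpr (fun w hw => (allListK_iff w _).mpr (fun s hs =>
      Nat.ble_eq_true_of_le (hswl w hw s hs)))
  obtain ⟨hrel1, hrel2⟩ := relCheck_sound H v hrelc (hlet15 _ hlet) (hlet15 _ hletsw) hbase hswH
  have hvalid : ∀ k < K, Valid H v F k := by
    intro k
    induction k using Nat.strong_induction_on with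
    | _ k ih =>
      intro hk
      by_cases hkD : k < D
      · exact defsK_sound H v F hdefs hkD
      · exact chunks_valid H v F IV hv15 hinv hiv15 hrel1 hrel2 chunks K D hchunks hcover k
          (Nat.le_of_not_lt hkD) hk (fun j hj => ih j hj (lt_trans hj hk))
  -- the permutation representation
  let f : ℕ → Equiv.Perm (Fin N) := fun x => pT hg16 hiv hperm x
  have hψ : ∀ x < g, ∀ i : Fin N, ((f x i : Fin N) : ℕ) = TT x i :=
    fun x hx i => pT_apply hg16 hiv hperm hx i
  have hwords : ∀ b ∈ baseL, wprod f b = 1 := by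
    intro b hb
    have hbl : ∀ s ∈ b, s < g := fun s hs => lettersK_lt hlet hb hs
    apply Equiv.ext
    intro i
    apply Fin.ext
    rw [Fn.perm_word f hψ b hbl i]
    exact Nat.eq_of_beq_eq_true ((allBelowK_iff N _).mp ((allListK_iff _ _).mp hrels b hb) i.val i.isLt)
  obtain ⟨ρ, hρ0⟩ := hlift f (fun s hs => pT_inv hg16 hiv hperm hs) hwords
  have hρ : ∀ x < g, ∀ i : Fin N, ((ρ (v x) i : Fin N) : ℕ) = TT x i := by
    intro x hx i
    rw [hρ0 x hx]
    exact hψ x hx i
  obtain ⟨hindex, Φ, hΦ⟩ := index_and_equiv H v F IV hinv ρ hρ hH hg16 hiv hvalid hfin hlen hN hgen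
    hsub htrans
  exact ⟨ρ, hρ, hindex, Φ, hΦ⟩

end Cfsg.Agent.Lib.Helper12.TCG
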