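import Cfsg.Agent.Lib.Helper12.TCG.Parts
import Cfsg.Agent.Lib.Helper12.TC.Cox
import Cfsg.Prelude.Def_Spor_ON

/-!
The presentation of the O'Nan group: numbering of the letters (`0, …, 5` for `a, …, f`, `6` for `g`, `7` for the
inverse of `g`), the relators as words, and the universal property (helper12).
-/

set_option autoImplicit false
set_option linter.unusedSimpArgs false

namespace Cfsg.Agent.Lib.Helper12.TCG.ONPres

open Cfsg.Spor Cfsg.Agent.Lib.Helper12.TC Cfsg.Agent.Lib.Helper12.TCG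

/-- the relators of the presentation -/
abbrev rels : Set (FreeGroup ON.Gen) := coxRelators ON.edges ∪ {r | r ∈ ON.extra}

/-- numbering of the generators -/
def gen : ℕ → ON.Gen
  | 0 => .a
  | 1 => .b
  | 2 => .c
  | 3 => .d
  | 4 => .e
  | 5 => .f
  | _ => .g

/-- numbering of the generators -/
def idx : ON.Gen → ℕ
  | .a => 0
  | .b => 1
  | .c => 2
  | .d => 3
  | .e => 4
  | .f => 5
  | .g => 6

/-- the letters as elements of a group, given the images of the generators -/
def vOf {K : Type*} [Group K] (φ : ON.Gen → K) : ℕ → K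
  | 0 => φ .a
  | 1 => φ .b
  | 2 => φ .c
  | 3 => φ .d
  | 4 => φ .e
  | 5 => φ .f
  | 6 => φ .g
  | 7 => (φ .g)⁻¹
  | _ => 1

/-- the letters as elements of the presented group -/
noncomputable def v : ℕ → ON := vOf (fun y => PresentedGroup.mk rels (FreeGroup.of y))

/-- the inverse letters -/
def cIV : ℕ := 18364758544241406480

/-- the further relators as words -/
def extraWords : List (List ℕ) :=
  [[0, 5, 7, 7],
   [0, 5, 3, 2, 3, 2, 3, 2, 3, 2],
   [2, 7, 3, 7, 3, 2, 3, 6, 3, 6],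
   [3, 7, 2, 7, 2, 3, 2, 6, 2, 6],
   [1, 2, 3, 6, 1, 2, 3, 6, 1, 2, 3, 6, 1, 2, 3, 6, 1, 2, 3, 6],
   [6, 1, 2, 6, 2, 1, 6, 1, 2, 6, 2],
   [6, 4, 3, 6, 3, 4, 6, 4, 3, 6, 3]]

/-- the words of the letters and their inverses -/
def pairWords : List (List ℕ) :=
  [[0, 0], [1, 1], [2, 2], [3, 3], [4, 4], [5, 5], [6, 7], [7, 6]]

/-- the base words -/
def baseL : List (List ℕ) :=
  coxWords ON.edges gen 6 ++ (extraWords ++ (pairWords ++ [[]]))

theorem hnodes : ∀ i < 6, gen i ∈ coxNodes ON.edges := by decide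

theorem nodes_cases : ∀ y ∈ coxNodes ON.edges, ∃ i < 6, gen i = y := by
  intro y hy
  cases y
  · exact absurd hy (by decide)
  · exact ⟨0, by decide, rfl⟩
  · exact ⟨1, by decide, rfl⟩
  · exact ⟨2, by decide, rfl⟩
  · exact ⟨3, by decide, rfl⟩
  · exact ⟨4, by decide, rfl⟩
  · exact ⟨5, by decide, rfl⟩

section Hom

variable {K : Type*} [Group K] (φ : FreeGroup ON.Gen →* K)

theorem vOf_gen {i : ℕ} (hi : i < 7) : vOf (fun y => φ (FreeGroup.of y)) i = φ (FreeGroup.of (gen i)) := by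
  interval_cases i <;> rfl

theorem wprod_vOf_of_lt (l : List ℕ) (hl : ∀ s ∈ l, s < 6) :
    wprod (vOf (fun y => φ (FreeGroup.of y))) l = wprod (fun i => φ (FreeGroup.of (gen i))) l := by
  induction l with
  | nil => rfl
  | cons s l ih =>
    rw [wprod_cons, wprod_cons, ih (fun t ht => hl t (List.mem_cons_of_mem _ ht)),
      vOf_gen φ (by have := hl s List.mem_cons_self; omega)]

/-- the squares of the nodes, from the Coxeter relators -/
theorem sq_of_hom (hr : ∀ r ∈ coxRelators ON.edges, φ r = 1) {y : ON.Gen} (hy : y ∈ coxNodes ON.edges) :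
    φ (FreeGroup.of y) * φ (FreeGroup.of y) = 1 := by
  have h1 := hr _ ⟨y, hy, y, hy, rfl⟩
  have : coxLabel ON.edges y y = 1 := by
    delta coxLabel
    rw [if_pos rfl]
  rw [this, pow_one, map_mul] at h1
  exact h1

/-- the Coxeter words, from the Coxeter relators -/
theorem cox_words_of_hom' (hr : ∀ r ∈ coxRelators ON.edges, φ r = 1) :
    ∀ b ∈ coxWords ON.edges gen 6, wprod (fun i => φ (FreeGroup.of (gen i))) b = 1 := by
  intro b hb
  obtain ⟨j, hj, hb⟩ := List.mem_flatMap.mp hb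
  obtain ⟨i, hi, rfl⟩ := List.mem_map.mp hb
  have hj' : j < 6 := List.mem_range.mp hj
  have hi' : i < j := List.mem_range.mp hi
  rw [wprod_coxWord, ← map_mul, ← map_pow]
  exact hr _ ⟨gen i, hnodes i (by omega), gen j, hnodes j hj', rfl⟩

/-- the Coxeter relators, from the Coxeter words and the squares -/
theorem cox_hom_of_words' (hsq : ∀ y ∈ coxNodes ON.edges, φ (FreeGroup.of y) * φ (FreeGroup.of y) = 1)
    (hw : ∀ b ∈ coxWords ON.edges gen 6, wprod (fun i => φ (FreeGroup.of (gen i))) b = 1) :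
    ∀ r ∈ coxRelators ON.edges, φ r = 1 := by
  rintro r ⟨x, hx, y, hy, rfl⟩
  obtain ⟨i, hi, rfl⟩ := nodes_cases x hx
  obtain ⟨j, hj, rfl⟩ := nodes_cases y hy
  rw [map_pow, map_mul]
  rcases Nat.lt_trichotomy i j with h | h | h
  · have := hw _ (mem_coxWords ON.edges gen h hj)
    rw [wprod_coxWord] at this
    exact this
  · rw [h]
    have : coxLabel ON.edges (gen j) (gen j) = 1 := by
      delta coxLabel
      rw [if_pos rfl]
    rw [this, pow_one]
    exact hsq _ hy
  · have := hw _ (mem_coxWords ON.edges gen h hi)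
    rw [wprod_coxWord] at this
    have e : labN ON.edges gen j i = coxLabel ON.edges (gen i) (gen j) := coxLabel_symm ON.edges _ _
    rw [e] at this
    exact pow_swap_eq_one _ _ _ this

set_option maxRecDepth 10000 in
set_option maxHeartbeats 1000000 in
/-- the further relators and their words -/
theorem hextra (hsq : ∀ y ∈ coxNodes ON.edges, φ (FreeGroup.of y) * φ (FreeGroup.of y) = 1) :
    (∀ r ∈ ON.extra, φ r = 1) ↔
      ∀ b ∈ extraWords, wprod (vOf (fun y => φ (FreeGroup.of y))) b = 1 := by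
  have hia : (φ (FreeGroup.of ON.Gen.a))⁻¹ = φ (FreeGroup.of ON.Gen.a) :=
    inv_eq_of_mul_eq_one_left (hsq _ (by decide))
  have hib : (φ (FreeGroup.of ON.Gen.b))⁻¹ = φ (FreeGroup.of ON.Gen.b) :=
    inv_eq_of_mul_eq_one_left (hsq _ (by decide))
  have hic : (φ (FreeGroup.of ON.Gen.c))⁻¹ = φ (FreeGroup.of ON.Gen.c) :=
    inv_eq_of_mul_eq_one_left (hsq _ (by decide))
  have hid : (φ (FreeGroup.of ON.Gen.d))⁻¹ = φ (FreeGroup.of ON.Gen.d) :=
    inv_eq_of_mul_eq_one_left (hsq _ (by decide))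
  have hie : (φ (FreeGroup.of ON.Gen.e))⁻¹ = φ (FreeGroup.of ON.Gen.e) :=
    inv_eq_of_mul_eq_one_left (hsq _ (by decide))
  have hif : (φ (FreeGroup.of ON.Gen.f))⁻¹ = φ (FreeGroup.of ON.Gen.f) :=
    inv_eq_of_mul_eq_one_left (hsq _ (by decide))
  have e0 : φ ((ON.a * ON.f) * ((ON.g ^ 2)⁻¹)) =
      wprod (vOf (fun y => φ (FreeGroup.of y))) [0, 5, 7, 7] := by
    simp only [map_mul, map_inv, mul_inv_rev, pow_succ, pow_zero, one_mul, hia, hib, hic, hid, hie, hif,
      wprod, List.map, List.prod_cons, List.prod_nil, mul_one, mul_assoc, vOf, inv_inv]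
  have e1 : φ ((ON.a * ON.f) * (((ON.c * ON.d) ^ 4)⁻¹)) =
      wprod (vOf (fun y => φ (FreeGroup.of y))) [0, 5, 3, 2, 3, 2, 3, 2, 3, 2] := by
    simp only [map_mul, map_inv, mul_inv_rev, pow_succ, pow_zero, one_mul, hia, hib, hic, hid, hie, hif,
      wprod, List.map, List.prod_cons, List.prod_nil, mul_one, mul_assoc, vOf, inv_inv]
  have e2 : φ (ON.c * ((ON.d * ON.g * ON.d * ON.g)⁻¹ * ON.c * (ON.d * ON.g * ON.d * ON.g))) =
      wprod (vOf (fun y => φ (FreeGroup.of y))) [2, 7, 3, 7, 3, 2, 3, 6, 3, 6] := by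
    simp only [map_mul, map_inv, mul_inv_rev, pow_succ, pow_zero, one_mul, hia, hib, hic, hid, hie, hif,
      wprod, List.map, List.prod_cons, List.prod_nil, mul_one, mul_assoc, vOf, inv_inv]
  have e3 : φ (ON.d * ((ON.c * ON.g * ON.c * ON.g)⁻¹ * ON.d * (ON.c * ON.g * ON.c * ON.g))) =
      wprod (vOf (fun y => φ (FreeGroup.of y))) [3, 7, 2, 7, 2, 3, 2, 6, 2, 6] := by
    simp only [map_mul, map_inv, mul_inv_rev, pow_succ, pow_zero, one_mul, hia, hib, hic, hid, hie, hif,
      wprod, List.map, List.prod_cons, List.prod_nil, mul_one, mul_assoc, vOf, inv_inv]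
  have e4 : φ ((ON.b * ON.c * ON.d * ON.g) ^ 5) =
      wprod (vOf (fun y => φ (FreeGroup.of y)))
        [1, 2, 3, 6, 1, 2, 3, 6, 1, 2, 3, 6, 1, 2, 3, 6, 1, 2, 3, 6] := by
    simp only [map_mul, map_inv, mul_inv_rev, pow_succ, pow_zero, one_mul, hia, hib, hic, hid, hie, hif,
      wprod, List.map, List.prod_cons, List.prod_nil, mul_one, mul_assoc, vOf, inv_inv]
  have e5 : φ (ON.g * ON.b * (ON.c⁻¹ * ON.g * ON.c) * (ON.b⁻¹ * ON.g * ON.b) * (ON.c⁻¹ * ON.g * ON.c)) =
      wprod (vOf (fun y => φ (FreeGroup.of y))) [6, 1, 2, 6, 2, 1, 6, 1, 2, 6, 2] := by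
    simp only [map_mul, map_inv, mul_inv_rev, pow_succ, pow_zero, one_mul, hia, hib, hic, hid, hie, hif,
      wprod, List.map, List.prod_cons, List.prod_nil, mul_one, mul_assoc, vOf, inv_inv]
  have e6 : φ (ON.g * ON.e * (ON.d⁻¹ * ON.g * ON.d) * (ON.e⁻¹ * ON.g * ON.e) * (ON.d⁻¹ * ON.g * ON.d)) =
      wprod (vOf (fun y => φ (FreeGroup.of y))) [6, 4, 3, 6, 3, 4, 6, 4, 3, 6, 3] := by
    simp only [map_mul, map_inv, mul_inv_rev, pow_succ, pow_zero, one_mul, hia, hib, hic, hid, hie, hif,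
      wprod, List.map, List.prod_cons, List.prod_nil, mul_one, mul_assoc, vOf, inv_inv]
  have hL : (∀ r ∈ ON.extra, φ r = 1) ↔
      (φ ((ON.a * ON.f) * ((ON.g ^ 2)⁻¹)) = 1 ∧
       φ ((ON.a * ON.f) * (((ON.c * ON.d) ^ 4)⁻¹)) = 1 ∧
       φ (ON.c * ((ON.d * ON.g * ON.d * ON.g)⁻¹ * ON.c * (ON.d * ON.g * ON.d * ON.g))) = 1 ∧
       φ (ON.d * ((ON.c * ON.g * ON.c * ON.g)⁻¹ * ON.d * (ON.c * ON.g * ON.c * ON.g))) = 1 ∧
       φ ((ON.b * ON.c * ON.d * ON.g) ^ 5) = 1 ∧
       φ (ON.g * ON.b * (ON.c⁻¹ * ON.g * ON.c) * (ON.b⁻¹ * ON.g * ON.b) * (ON.c⁻¹ * ON.g * ON.c)) = 1 ∧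
       φ (ON.g * ON.e * (ON.d⁻¹ * ON.g * ON.d) * (ON.e⁻¹ * ON.g * ON.e) * (ON.d⁻¹ * ON.g * ON.d)) = 1) := by
    show (∀ r ∈ [_, _, _, _, _, _, _], φ r = 1) ↔ _
    simp only [List.forall_mem_cons, List.not_mem_nil, false_imp_iff, implies_true, and_true]
  have hR : (∀ b ∈ extraWords, wprod (vOf (fun y => φ (FreeGroup.of y))) b = 1) ↔
      (wprod (vOf (fun y => φ (FreeGroup.of y))) [0, 5, 7, 7] = 1 ∧
       wprod (vOf (fun y => φ (FreeGroup.of y))) [0, 5, 3, 2, 3, 2, 3, 2, 3, 2] = 1 ∧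
       wprod (vOf (fun y => φ (FreeGroup.of y))) [2, 7, 3, 7, 3, 2, 3, 6, 3, 6] = 1 ∧
       wprod (vOf (fun y => φ (FreeGroup.of y))) [3, 7, 2, 7, 2, 3, 2, 6, 2, 6] = 1 ∧
       wprod (vOf (fun y => φ (FreeGroup.of y)))
        [1, 2, 3, 6, 1, 2, 3, 6, 1, 2, 3, 6, 1, 2, 3, 6, 1, 2, 3, 6] = 1 ∧
       wprod (vOf (fun y => φ (FreeGroup.of y))) [6, 1, 2, 6, 2, 1, 6, 1, 2, 6, 2] = 1 ∧
       wprod (vOf (fun y => φ (FreeGroup.of y))) [6, 4, 3, 6, 3, 4, 6, 4, 3, 6, 3] = 1) := by
    show (∀ b ∈ [_, _, _, _, _, _, _], _) ↔ _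
    simp only [List.forall_mem_cons, List.not_mem_nil, false_imp_iff, implies_true, and_true]
  rw [hL, hR, e0, e1, e2, e3, e4, e5, e6]

/-- the words of the letters and their inverses -/
theorem hpairs (hsq : ∀ y ∈ coxNodes ON.edges, φ (FreeGroup.of y) * φ (FreeGroup.of y) = 1) :
    ∀ b ∈ pairWords, wprod (vOf (fun y => φ (FreeGroup.of y))) b = 1 := by
  intro b hb
  simp only [pairWords, List.mem_cons, List.not_mem_nil, or_false] at hb
  rcases hb with rfl | rfl | rfl | rfl | rfl | rfl | rfl | rfl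
  · rw [wprod_cons, wprod_cons, wprod_nil, mul_one]; exact hsq _ (by decide)
  · rw [wprod_cons, wprod_cons, wprod_nil, mul_one]; exact hsq _ (by decide)
  · rw [wprod_cons, wprod_cons, wprod_nil, mul_one]; exact hsq _ (by decide)
  · rw [wprod_cons, wprod_cons, wprod_nil, mul_one]; exact hsq _ (by decide)
  · rw [wprod_cons, wprod_cons, wprod_nil, mul_one]; exact hsq _ (by decide)
  · rw [wprod_cons, wprod_cons, wprod_nil, mul_one]; exact hsq _ (by decide)
  · rw [wprod_cons, wprod_cons, wprod_nil, mul_one]; exact mul_inv_cancel _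
  · rw [wprod_cons, wprod_cons, wprod_nil, mul_one]; exact inv_mul_cancel _

/-- the base words, for a homomorphism which kills the relators -/
theorem base_of_hom (hr : ∀ r ∈ rels, φ r = 1) :
    ∀ b ∈ baseL, wprod (vOf (fun y => φ (FreeGroup.of y))) b = 1 := by
  have hcox : ∀ r ∈ coxRelators ON.edges, φ r = 1 := fun r h => hr r (Or.inl h)
  have hext : ∀ r ∈ ON.extra, φ r = 1 := fun r h => hr r (Or.inr h)
  have hsq : ∀ y ∈ coxNodes ON.edges, φ (FreeGroup.of y) * φ (FreeGroup.of y) = 1 :=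
    fun y hy => sq_of_hom φ hcox hy
  intro b hb
  rcases List.mem_append.mp hb with h | h
  · have hl : ∀ s ∈ b, s < 6 := by
      obtain ⟨j, hj, hb'⟩ := List.mem_flatMap.mp h
      obtain ⟨i, hi, rfl⟩ := List.mem_map.mp hb'
      have hj' : j < 6 := List.mem_range.mp hj
      have hi' : i < j := List.mem_range.mp hi
      intro s hs
      have : ∀ m : ℕ, ∀ s ∈ coxWord m i j, s = i ∨ s = j := by
        intro m
        induction m with
        | zero => intro s hs; exact absurd hs List.not_mem_nil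
        | succ m ih =>
          intro s hs
          have e : coxWord (m+1) i j = i :: j :: coxWord m i j := rfl
          rw [e] at hs
          rcases List.mem_cons.mp hs with h1 | h1
          · exact Or.inl h1
          · rcases List.mem_cons.mp h1 with h2 | h2
            · exact Or.inr h2
            · exact ih s h2
      rcases this _ s hs with h1 | h1 <;> omega
    rw [wprod_vOf_of_lt φ b hl]
    exact cox_words_of_hom' φ hcox b h
  · rcases List.mem_append.mp h with h | h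
    · exact (hextra φ hsq).mp hext b h
    · rcases List.mem_append.mp h with h | h
      · exact hpairs φ hsq b h
      · rw [List.mem_singleton.mp h]; rfl

end Hom

theorem hiv : ivK cIV 8 = true := by decide

theorem hbase : ∀ b ∈ baseL, wprod v b = 1 :=
  base_of_hom (PresentedGroup.mk rels) (fun _ hr => PresentedGroup.one_of_mem hr)

theorem hlet : lettersK 8 baseL = true := by decide

theorem hvge : ∀ s, ¬ s < 8 → v s = 1 := by
  intro s hs
  have : 8 ≤ s := Nat.le_of_not_lt hs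
  obtain ⟨t, rfl⟩ := Nat.exists_eq_add_of_le this
  rw [Nat.add_comm]
  rfl

theorem hvinv : ∀ s < 8, v (invS cIV s) = (v s)⁻¹ := by
  have hcox : ∀ r ∈ coxRelators ON.edges, PresentedGroup.mk rels r = 1 :=
    fun r h => PresentedGroup.one_of_mem (Or.inl h)
  have hsq : ∀ y ∈ coxNodes ON.edges, PresentedGroup.mk rels (FreeGroup.of y) *
      PresentedGroup.mk rels (FreeGroup.of y) = 1 :=
    fun y hy => sq_of_hom (PresentedGroup.mk rels) hcox hy
  intro s hs
  interval_cases s
  · exact (inv_eq_of_mul_eq_one_left (hsq _ (by decide))).symm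
  · exact (inv_eq_of_mul_eq_one_left (hsq _ (by decide))).symm
  · exact (inv_eq_of_mul_eq_one_left (hsq _ (by decide))).symm
  · exact (inv_eq_of_mul_eq_one_left (hsq _ (by decide))).symm
  · exact (inv_eq_of_mul_eq_one_left (hsq _ (by decide))).symm
  · exact (inv_eq_of_mul_eq_one_left (hsq _ (by decide))).symm
  · rfl
  · exact (inv_inv _).symm

theorem hgen : ∀ γ : ON, γ ∈ Subgroup.closure {y | ∃ x < 8, y = v x} := by
  intro γ
  have : Subgroup.closure {y : ON | ∃ x < 8, y = v x} = ⊤ := by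
    rw [eq_top_iff, ← PresentedGroup.closure_range_of rels]
    apply Subgroup.closure_mono
    rintro _ ⟨y, rfl⟩
    refine ⟨idx y, ?_, ?_⟩
    · cases y <;> decide
    · cases y <;> rfl
  rw [this]
  trivial

/-- the universal property of the presented group -/
theorem hlift {N : ℕ} (f : ℕ → Equiv.Perm (Fin N)) (hf : ∀ s < 8, f (invS cIV s) = (f s)⁻¹)
    (hw : ∀ b ∈ baseL, wprod f b = 1) :
    ∃ ρ : ON →* Equiv.Perm (Fin N), ∀ x < 8, ρ (v x) = f x := by
  let φ : FreeGroup ON.Gen →* Equiv.Perm (Fin N) := FreeGroup.lift (fun y => f (idx y))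
  have hφ : ∀ y, φ (FreeGroup.of y) = f (idx y) := fun y => FreeGroup.lift_apply_of
  have h7 : f 7 = (f 6)⁻¹ := hf 6 (by decide)
  have hvf : ∀ i < 8, vOf (fun y => φ (FreeGroup.of y)) i = f i := by
    intro i hi
    interval_cases i
    · exact hφ _
    · exact hφ _
    · exact hφ _
    · exact hφ _
    · exact hφ _
    · exact hφ _
    · exact hφ _
    · show (φ (FreeGroup.of ON.Gen.g))⁻¹ = f 7
      rw [hφ, h7]
      rfl
  have hwv : ∀ l : List ℕ, (∀ s ∈ l, s < 8) → wprod (vOf (fun y => φ (FreeGroup.of y))) l = wprod f l := by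
    intro l
    induction l with
    | nil => intro _; rfl
    | cons s l ih =>
      intro hl
      rw [wprod_cons, wprod_cons, ih (fun t ht => hl t (List.mem_cons_of_mem _ ht)),
        hvf s (hl s List.mem_cons_self)]
  have hw' : ∀ b ∈ baseL, wprod (vOf (fun y => φ (FreeGroup.of y))) b = 1 := by
    intro b hb
    rw [hwv b (fun s hs => lettersK_lt hlet hb hs)]
    exact hw b hb
  have hsq : ∀ y ∈ coxNodes ON.edges, φ (FreeGroup.of y) * φ (FreeGroup.of y) = 1 := by
    intro y hy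
    obtain ⟨i, hi, rfl⟩ := nodes_cases y hy
    have h1 := hw' [i, i] (by
      interval_cases i <;> decide)
    rw [wprod_cons, wprod_cons, wprod_nil, mul_one, vOf_gen φ (by omega)] at h1
    exact h1
  have hrel : ∀ r ∈ rels, φ r = 1 := by
    intro r hr
    rcases hr with hr | hr
    · refine cox_hom_of_words' φ hsq (fun b hb => ?_) r hr
      have hl : ∀ s ∈ b, s < 6 := by
        intro s hs
        have h8 : s < 8 := lettersK_lt hlet (List.mem_append_left _ hb) hs
        have : lettersK 6 (coxWords ON.edges gen 6) = true := by decide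
        exact lettersK_lt this hb hs
      rw [← wprod_vOf_of_lt φ b hl]
      exact hw' b (List.mem_append_left _ hb)
    · exact (hextra φ hsq).mpr (fun b hb =>
        hw' b (List.mem_append_right _ (List.mem_append_left _ hb))) r hr
  refine ⟨PresentedGroup.toGroup hrel, ?_⟩
  intro x hx
  have hof : ∀ y, PresentedGroup.toGroup hrel (PresentedGroup.mk rels (FreeGroup.of y)) = f (idx y) :=
    fun y => PresentedGroup.toGroup.of hrel
  interval_cases x
  · exact hof _
  · exact hof _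
  · exact hof _
  · exact hof _
  · exact hof _
  · exact hof _
  · exact hof _
  · show PresentedGroup.toGroup hrel ((PresentedGroup.mk rels (FreeGroup.of ON.Gen.g))⁻¹) = f 7
    rw [map_inv, hof, h7]
    rfl

end Cfsg.Agent.Lib.Helper12.TCG.ONPres
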