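import Cfsg.Agent.Lib.Helper12.TCG.Main
import Cfsg.Agent.Lib.Helper12.TC.Fn.FinParts

/-!
Coset enumeration certificates for generators with inverses: tables with entries of 20 bits, and the checks of
the columns and of the final table split into parts (helper12).
-/

set_option autoImplicit false

namespace Cfsg.Agent.Lib.Helper12.TCG

open Cfsg.Agent.Lib.Helper12.TC

/-- table lookup in a tree of blocks of 2048 entries of 20 bits: the block of the point `i` in the
column `x` has the key `64 * x + i / 2048` -/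
noncomputable def tabT20 (t : Tr) (x i : ℕ) : ℕ :=
  Nat.land (Nat.shiftRight (t.look (Nat.add (Nat.mul 64 x) (Nat.shiftRight i 11)))
    (Nat.mul 20 (Nat.land i 2047))) 1048575

/-- the column `x` maps the points `lo + j`, `j < n`, below `N`, and the column of the inverse letter maps
them back -/
def permPartG (IV : ℕ) (TT : ℕ → ℕ → ℕ) (x N lo n : ℕ) : Bool :=
  forceN (invS IV x) fun y => allBelowK n (fun j => forceN (Nat.add lo j) fun i =>
    Nat.blt (TT x i) N && Nat.beq (TT y (TT x i)) i)

/-- the points below `hi` are fine in the column `x` -/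
def PermOK (IV : ℕ) (TT : ℕ → ℕ → ℕ) (x N hi : ℕ) : Prop :=
  ∀ i < hi, TT x i < N ∧ TT (invS IV x) (TT x i) = i

theorem permOK_start (IV : ℕ) (TT : ℕ → ℕ → ℕ) (x N : ℕ) : PermOK IV TT x N 0 :=
  fun i hi => absurd hi (Nat.not_lt_zero i)

theorem permOK_step {IV : ℕ} {TT : ℕ → ℕ → ℕ} {x N lo n hi : ℕ}
    (h : permPartG IV TT x N lo n = true) (hmid : lo + n = hi) (hprev : PermOK IV TT x N lo) :
    PermOK IV TT x N hi := by
  intro i hi'
  rcases Nat.lt_or_ge i lo with h1 | h1
  · exact hprev i h1
  · unfold permPartG at h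
    rw [forceN_eq] at h
    have h2 := (allBelowK_iff n _).mp h (i - lo) (by omega)
    rw [forceN_eq] at h2
    have e : Nat.add lo (i - lo) = i := by
      show lo + (i - lo) = i
      omega
    rw [e, Bool.and_eq_true] at h2
    exact ⟨Nat.le_of_ble_eq_true h2.1, Nat.eq_of_beq_eq_true h2.2⟩

theorem permOneG_of_OK {IV : ℕ} {TT : ℕ → ℕ → ℕ} {x N : ℕ} (h : PermOK IV TT x N N) :
    permOneG IV TT x N = true := by
  unfold permOneG
  rw [forceN_eq]
  refine (allBelowK_iff N _).mpr (fun i hi => ?_)
  rw [Bool.and_eq_true]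
  obtain ⟨h1, h2⟩ := h i hi
  refine ⟨Nat.ble_eq_true_of_le h1, ?_⟩
  rw [h2]
  exact Nat.beq_refl i

theorem liveK_cons (r : ℕ) (l : List ℕ) :
    liveK (r :: l) = Nat.lor (liveK l) (Nat.shiftLeft 1 (Nat.land r 1048575)) := rfl

theorem liveK_append (a b : List ℕ) : liveK (a ++ b) = Nat.lor (liveK a) (liveK b) := by
  induction a with
  | nil =>
    show liveK b = 0 ||| liveK b
    rw [Nat.zero_or]
  | cons r a ih =>
    have e : (r :: a) ++ b = r :: (a ++ b) := rfl
    rw [e, liveK_cons, liveK_cons, ih]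
    show (liveK a ||| liveK b) ||| _ = (liveK a ||| _) ||| liveK b
    rw [Nat.or_assoc, Nat.or_assoc, Nat.or_comm (liveK b)]

theorem liveK_append_beq {a b : List ℕ} {A B : ℕ} (ha : Nat.beq (liveK a) A = true)
    (hb : Nat.beq (liveK b) B = true) : Nat.beq (liveK (a ++ b)) (Nat.lor A B) = true := by
  rw [liveK_append, Nat.eq_of_beq_eq_true ha, Nat.eq_of_beq_eq_true hb]
  exact Nat.beq_refl _

/-- the final table is checked in parts against the literal bitmap `LIVE` of its labels -/
theorem finG_of_parts {IV : ℕ} {F : ℕ → ℕ} {K g : ℕ} {recs : List ℕ} {LIVE : ℕ}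
    (hlive : Nat.beq (liveK recs) LIVE = true) (h0 : bitK LIVE 0 = true)
    (hall : allListK recs (fun rec => finRecG IV F LIVE K g rec) = true) :
    finG IV F K g recs = true := by
  have e : liveK recs = LIVE := Nat.eq_of_beq_eq_true hlive
  show (bitK (liveK recs) 0 && allListK recs (fun rec => finRecG IV F (liveK recs) K g rec)) = true
  rw [e, h0, hall]
  rfl

/-- the `k`-th fact of the tree `t`: blocks of 512 facts of 44 bits -/
noncomputable def getT9 (t : Tr) (k : ℕ) : ℕ :=
  Nat.land (Nat.shiftRight (t.look (Nat.shiftRight k 9)) (Nat.mul 44 (Nat.land k 511)))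
    17592186044415

/-- check of the defining facts `lo + j`, `j < n` -/
def defsPartK (F : ℕ → ℕ) (lo n : ℕ) : Bool :=
  allBelowK n (fun j => forceN (Nat.add lo j) fun k =>
    Nat.ble (fSrc (F k)) k && Nat.beq (fDst (F k)) (Nat.succ k))

/-- the defining facts below `hi` are fine -/
def DefsOK (F : ℕ → ℕ) (hi : ℕ) : Prop :=
  ∀ k < hi, (Nat.ble (fSrc (F k)) k && Nat.beq (fDst (F k)) (Nat.succ k)) = true

theorem defsOK_start (F : ℕ → ℕ) : DefsOK F 0 :=
  fun k hk => absurd hk (Nat.not_lt_zero k)

theorem defsOK_step {F : ℕ → ℕ} {lo n hi : ℕ} (h : defsPartK F lo n = true) (hmid : lo + n = hi)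
    (hprev : DefsOK F lo) : DefsOK F hi := by
  intro k hk
  rcases Nat.lt_or_ge k lo with h1 | h1
  · exact hprev k h1
  · have h2 := (allBelowK_iff n _).mp h (k - lo) (by omega)
    rw [forceN_eq] at h2
    have e : Nat.add lo (k - lo) = k := by
      show lo + (k - lo) = k
      omega
    rw [e] at h2
    exact h2

theorem defsK_of_OK {F : ℕ → ℕ} {D : ℕ} (h : DefsOK F D) : defsK F D = true :=
  (allBelowK_iff D _).mpr h

end Cfsg.Agent.Lib.Helper12.TCG
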