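import Cfsg.Agent.Lib.Helper12.TCG.Parts

/-!
A wider table for certificates with up to `2 ^ 19` points (helper12).
-/

set_option autoImplicit false

namespace Cfsg.Agent.Lib.Helper12.TCG

open Cfsg.Agent.Lib.Helper12.TC

/-- table lookup in a tree of blocks of 2048 entries of 20 bits: the block of the point `i` in the
column `x` has the key `256 * x + i / 2048` -/
noncomputable def tabT20b (t : Tr) (x i : ℕ) : ℕ :=
  Nat.land (Nat.shiftRight (t.look (Nat.add (Nat.mul 256 x) (Nat.shiftRight i 11)))
    (Nat.mul 20 (Nat.land i 2047))) 1048575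

end Cfsg.Agent.Lib.Helper12.TCG
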