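import Cfsg.Agent.Lib.Helper12.TCG.WPres

/-!
The presentation of the special unitary group of degree three over the field of `3^2` elements on the generators
`a = u(1, β₀)`, `b = diag(ζ, σ ζ / ζ, 1 / σ ζ)`, `w = antidiag(γ, 1, -1 / γ)` (coordinates of the antidiagonal form); the letters
are `0`, `2`, `4` for `a`, `b`, `w` and `1`, `3`, `5` for their inverses (helper12).
-/

set_option autoImplicit false
set_option maxRecDepth 100000

namespace Cfsg.Agent.Lib.Helper12.TCG.SU33Pres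

open Cfsg.Agent.Lib.Helper12.TC Cfsg.Agent.Lib.Helper12.TCG

/-- the relators -/
def relsL : List (List ℕ) :=
  [[2, 2, 2, 2, 2, 2, 2, 2],
   [0, 0, 0],
   [2, 4, 3, 4],
   [4, 4, 4, 4],
   [0, 4, 4, 0, 4, 4],
   [0, 2, 0, 4, 1, 2, 2, 4, 1, 5, 0, 3],
   [0, 2, 0, 2, 4, 1, 2, 0, 4, 1, 4, 0, 5]]

/-- the base words: the relators, the letters with their inverses, the empty word -/
def baseL : List (List ℕ) :=
  [[2, 2, 2, 2, 2, 2, 2, 2],
   [0, 0, 0],
   [2, 4, 3, 4],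
   [4, 4, 4, 4],
   [0, 4, 4, 0, 4, 4],
   [0, 2, 0, 4, 1, 2, 2, 4, 1, 5, 0, 3],
   [0, 2, 0, 2, 4, 1, 2, 0, 4, 1, 4, 0, 5],
   [0, 1],
   [1, 0],
   [2, 3],
   [3, 2],
   [4, 5],
   [5, 4],
   []]

theorem baseL_eq : baseL = relsL ++ [[0, 1], [1, 0], [2, 3], [3, 2], [4, 5], [5, 4], []] := by decide

/-- the inverse letters -/
def cIV : ℕ := 18364758544492077825

/-- the presented group -/
abbrev Grp : Type := WPres.Grp 6 baseL

/-- the letters as elements of the presented group -/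
def v : ℕ → Grp := WPres.v 6 baseL

theorem hiv : ivK cIV 6 = true := by decide

theorem hlet : lettersK 6 baseL = true := by decide

theorem hbase : ∀ b ∈ baseL, wprod v b = 1 := WPres.hbase 6 baseL

theorem hvge : ∀ s, ¬ s < 6 → v s = 1 := WPres.hvge 6 baseL

theorem hvinv : ∀ s < 6, v (invS cIV s) = (v s)⁻¹ :=
  WPres.hvinv 6 baseL cIV (by decide)

theorem hgen : ∀ γ : Grp, γ ∈ Subgroup.closure {y | ∃ x < 6, y = v x} := WPres.hgen 6 baseL

theorem hlift {N : ℕ} (f : ℕ → Equiv.Perm (Fin N)) (hf : ∀ s < 6, f (invS cIV s) = (f s)⁻¹)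
    (hw : ∀ b ∈ baseL, wprod f b = 1) :
    ∃ ρ : Grp →* Equiv.Perm (Fin N), ∀ x < 6, ρ (v x) = f x :=
  WPres.hliftPerm 6 baseL hlet cIV f hf hw

/-- the universal property -/
theorem hliftG {K : Type*} [Group K] (f : ℕ → K) (hw : ∀ b ∈ baseL, wprod f b = 1) :
    ∃ ρ : Grp →* K, ∀ x < 6, ρ (v x) = f x :=
  WPres.hlift 6 baseL hlet f hw

end Cfsg.Agent.Lib.Helper12.TCG.SU33Pres
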