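import Cfsg.Agent.Lib.Helper12.TCG.Main

/-!
Coset enumeration certificates for generators with inverses with up to 4096 rotated relators: the record of a
derived fact has the number of the rotated relator in its lowest twelve bits and the number of steps in the next
twelve bits (helper12).
-/

set_option autoImplicit false

namespace Cfsg.Agent.Lib.Helper12.TCG

open Cfsg.Agent.Lib.Helper12.TC

/-- check of the derived fact number `kk` with the record `rec` -/
def factW (IV : ℕ) (F : ℕ → ℕ) (RW R0 kk rec : ℕ) : Bool :=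
  @Bool.rec (fun _ => Bool) false
    (@Bool.rec (fun _ => Bool)
      (@Bool.rec (fun _ => Bool) false
        (stepsG IV F (Nat.sub kk 1) rec (fSrc (F kk)) (lastW (F kk))
          (Nat.land (Nat.shiftRight rec 12) 4095) (fDst (F kk)) (relW RW (Nat.land rec 4095)))
        (Nat.beq (fDst (F kk)) 0))
      (stepsG IV F (Nat.sub kk 1) rec (fSrc (F kk)) (lastW (F kk))
        (Nat.land (Nat.shiftRight rec 12) 4095) (fDst (F kk)) (relW RW (Nat.land rec 4095)))
      (Nat.ble (Nat.succ (Nat.land rec 4095)) R0))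
    (Nat.ble 1 kk)

/-- check of consecutive derived facts starting with number `kk` -/
def chunkW (IV : ℕ) (F : ℕ → ℕ) (RW R0 : ℕ) (recs : List ℕ) : ℕ → Bool :=
  @List.rec ℕ (fun _ => ℕ → Bool) (fun _ => true)
    (fun r _ ih kk => @Bool.rec (fun _ => Bool) false
      (forceN (Nat.succ kk) (fun kk' => ih kk')) (factW IV F RW R0 kk r))
    recs

section Sound

variable {G : Type*} [Group G] (H : Subgroup G) (v : ℕ → G) (F : ℕ → ℕ) (IV : ℕ)

variable (hv15 : v 15 = 1) (hinv : ∀ s, s < 16 → v (invS IV s) = (v s)⁻¹)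

include hv15 hinv in
theorem factW_sound {RW R0 kk rec : ℕ} (hiv15 : invS IV 15 = 15)
    (hrel1 : ∀ rid < R0, wprod v (unpack (relW RW rid)) = 1)
    (hrel2 : ∀ rid, wprod v (unpack (relW RW rid)) ∈ H)
    (hall : ∀ j < kk, Valid H v F j) (h : factW IV F RW R0 kk rec = true) :
    Valid H v F kk := by
  unfold factW at h
  obtain ⟨h0, h⟩ := boolRec_false_eq_true h
  have hkk : 1 ≤ kk := Nat.le_of_ble_eq_true h0
  set rid := Nat.land rec 4095 with hrid
  set p := fSrc (F kk) with hp
  set q := fDst (F kk) with hq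
  set s := fSym (F kk) with hs
  have hrun : stepsG IV F (Nat.sub kk 1) rec p (lastW (F kk))
      (Nat.land (Nat.shiftRight rec 12) 4095) q (relW RW rid) = true ∧ (rid < R0 ∨ q = 0) := by
    rcases boolRec_eq_true h with ⟨h2, h⟩ | ⟨h2, h⟩
    · obtain ⟨h3, h⟩ := boolRec_false_eq_true h
      exact ⟨h, Or.inr (Nat.eq_of_beq_eq_true h3)⟩
    · exact ⟨h, Or.inl (Nat.le_of_ble_eq_true h2)⟩
  obtain ⟨hrun, hcase⟩ := hrun
  have hall' : ∀ j ≤ Nat.sub kk 1, Valid H v F j := by
    intro j hj
    apply hall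
    have : Nat.sub kk 1 = kk - 1 := rfl
    omega
  obtain ⟨l, hun, hmem⟩ := stepsG_sound H v F IV hv15 hinv hall' hiv15 _ _ _ hrun
  have hword : wprod v (unpack (relW RW rid)) = wprod v l * v s := by
    rw [hun, wprod_append]
    congr 1
    cases h3 : Nat.beq s 15 with
    | true =>
      have e2 : lastW (F kk) = 0 := by
        show @Bool.rec (fun _ => ℕ) (Nat.succ s) 0 (Nat.beq s 15) = 0
        rw [h3]
      have : s = 15 := Nat.eq_of_beq_eq_true h3
      rw [e2, this, hv15, unpack_zero]; rfl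
    | false =>
      have e2 : lastW (F kk) = s + 1 := by
        show @Bool.rec (fun _ => ℕ) (Nat.succ s) 0 (Nat.beq s 15) = s + 1
        rw [h3]
      have hne : s ≠ 15 := fun h15 => by rw [h15] at h3; exact absurd h3 (by decide)
      have hlt : s < 16 := fSym_lt (F kk)
      have h15 : s < 15 := by omega
      have hw : s + 1 ≠ 0 := by omega
      rw [e2, unpack_pos hw]
      have a1 : (s + 1) % 16 - 1 = s := by omega
      have a2 : (s + 1) / 16 = 0 := by omega
      rw [a1, a2, unpack_zero, wprod_cons, wprod_nil, mul_one]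
  have hX : tau v F q * wprod v (unpack (relW RW rid)) * (tau v F q)⁻¹ ∈ H := by
    rcases hcase with h1 | h1
    · rw [hrel1 rid h1, mul_one, mul_inv_cancel]; exact H.one_mem
    · rw [h1, tau_zero, one_mul, inv_one, mul_one]; exact hrel2 rid
  have := H.mul_mem (H.inv_mem hmem) hX
  show tau v F p * v s * (tau v F q)⁻¹ ∈ H
  rw [hword] at this
  convert this using 1
  group

include hv15 hinv in
theorem chunkW_sound {RW R0 : ℕ} (hiv15 : invS IV 15 = 15)
    (hrel1 : ∀ rid < R0, wprod v (unpack (relW RW rid)) = 1)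
    (hrel2 : ∀ rid, wprod v (unpack (relW RW rid)) ∈ H) :
    ∀ (recs : List ℕ) (kk : ℕ), chunkW IV F RW R0 recs kk = true →
      ∀ k, kk ≤ k → k < kk + recs.length → (∀ j < k, Valid H v F j) → Valid H v F k := by
  intro recs
  induction recs with
  | nil => intro kk _ k h1 h2; simp at h2; omega
  | cons r recs ih =>
    intro kk h k h1 h2 hall
    have e0 : chunkW IV F RW R0 (r :: recs) kk =
        @Bool.rec (fun _ => Bool) false
          (forceN (Nat.succ kk) (fun kk' => chunkW IV F RW R0 recs kk')) (factW IV F RW R0 kk r) := rfl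
    rw [e0] at h
    obtain ⟨hf, h⟩ := boolRec_false_eq_true h
    rw [forceN_eq] at h
    rcases Nat.eq_or_lt_of_le h1 with h3 | h3
    · rw [← h3]
      exact factW_sound H v F IV hv15 hinv hiv15 hrel1 hrel2
        (fun j hj => hall j (lt_of_lt_of_le hj h1)) hf
    · have h4 : k < Nat.succ kk + recs.length := by
        rw [List.length_cons] at h2; omega
      exact ih (Nat.succ kk) h k h3 h4 hall

end Sound

/-- the chunks cover the facts from `D` up to `K` and are valid -/
theorem chunks_validW {G : Type*} [Group G] (H : Subgroup G) (v : ℕ → G) (F : ℕ → ℕ) (IV : ℕ)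
    (hv15 : v 15 = 1) (hinv : ∀ s, s < 16 → v (invS IV s) = (v s)⁻¹) (hiv15 : invS IV 15 = 15)
    {RW R0 : ℕ}
    (hrel1 : ∀ rid < R0, wprod v (unpack (relW RW rid)) = 1)
    (hrel2 : ∀ rid, wprod v (unpack (relW RW rid)) ∈ H)
    (chunks : List (ℕ × List ℕ)) (K : ℕ) :
    ∀ D : ℕ, (∀ c ∈ chunks, chunkW IV F RW R0 c.2 c.1 = true) → coverK D K chunks = true →
      ∀ k, D ≤ k → k < K → (∀ j < k, Valid H v F j) → Valid H v F k := by
  induction chunks with
  | nil =>
    intro D _ hc k h1 h2
    have : D = K := Nat.eq_of_beq_eq_true hc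
    omega
  | cons c chunks ih =>
    intro D hall hc k h1 h2 hv
    have e : coverK D K (c :: chunks) =
        (Nat.beq c.1 D && coverK (Nat.add D c.2.length) K chunks) := rfl
    rw [e, Bool.and_eq_true] at hc
    have e1 : c.1 = D := Nat.eq_of_beq_eq_true hc.1
    by_cases hk : k < D + c.2.length
    · have h3 := hall c List.mem_cons_self
      rw [e1] at h3
      exact chunkW_sound H v F IV hv15 hinv hiv15 hrel1 hrel2 c.2 D h3 k h1 hk hv
    · exact ih (Nat.add D c.2.length) (fun c' hc' => hall c' (List.mem_cons_of_mem _ hc')) hc.2 k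
        (Nat.le_of_not_lt hk) h2 hv

set_option maxHeartbeats 1000000 in
/-- the index of the subgroup and the permutation representation on its cosets -/
theorem main_rhoW {G : Type*} [Group G] (v : ℕ → G) (g IV : ℕ) (hg : g ≤ 15)
    (hiv : ivK IV g = true)
    (hvinv : ∀ s < g, v (invS IV s) = (v s)⁻¹) (hvge : ∀ s, ¬ s < g → v s = 1)
    (hgen : ∀ γ : G, γ ∈ Subgroup.closure {y | ∃ x < g, y = v x})
    (baseL : List (List ℕ)) (hbase : ∀ b ∈ baseL, wprod v b = 1) (hlet : lettersK g baseL = true)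
    (sw : List (List ℕ)) (H : Subgroup G)
    (hH : H = Subgroup.closure {γ | ∃ w ∈ sw, γ = wprod v w})
    (F : ℕ → ℕ) (RW : ℕ) (finrecs : List ℕ) (TT : ℕ → ℕ → ℕ) (rotW : List (ℕ × ℕ))
    (chunks : List (ℕ × List ℕ)) (D K R0 R N : ℕ)
    (hdefs : defsK F D = true)
    (hchunks : ∀ c ∈ chunks, chunkW IV F RW R0 c.2 c.1 = true)
    (hcover : coverK D K chunks = true)
    (hrelc : relCheckK RW R0 R baseL rotW sw = true)
    (hperm : permG IV TT g N = true)
    (hlift : ∀ f : ℕ → Equiv.Perm (Fin N), (∀ s < g, f (invS IV s) = (f s)⁻¹) →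
      (∀ b ∈ baseL, wprod f b = 1) → ∃ ρ : G →* Equiv.Perm (Fin N), ∀ x < g, ρ (v x) = f x)
    (hrels : Fn.relsK TT N baseL = true)
    (hsub : Fn.subK TT g sw = true) (htrans : Fn.transK TT g N sw = true)
    (hfin : finG IV F K g finrecs = true) (hlen : finrecs.length = N) (hN : 0 < N) :
    ∃ ρ : G →* Equiv.Perm (Fin N),
      (∀ x < g, ∀ i : Fin N, ((ρ (v x) i : Fin N) : ℕ) = TT x i) ∧
      H.index = N ∧ ∃ Φ : G ⧸ H ≃ Fin N, ∀ γ : G, Φ (γ : G ⧸ H) = ρ γ ⟨0, hN⟩ := by
  have hg16 : g ≤ 16 := by omega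
  have hv15 : v 15 = 1 := hvge 15 (by omega)
  have hiv15 : invS IV 15 = 15 := ivK_ge hiv (by omega) (by decide)
  have hinv : ∀ s, s < 16 → v (invS IV s) = (v s)⁻¹ := by
    intro s hs16
    by_cases hs : s < g
    · exact hvinv s hs
    · rw [ivK_ge hiv hs hs16, hvge s hs, inv_one]
  have hswl : ∀ w ∈ sw, ∀ s ∈ w, s < g := by
    intro w hw s hs
    have h5 := (allListK_iff sw _).mp hsub w hw
    rw [Bool.and_eq_true] at h5
    exact Nat.le_of_ble_eq_true ((allListK_iff w _).mp h5.1 s hs)
  have hswH : ∀ w ∈ sw, wprod v w ∈ H := by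
    intro w hw
    rw [hH]
    exact Subgroup.subset_closure ⟨w, hw, rfl⟩
  have hlet15 : ∀ L : List (List ℕ), lettersK g L = true → lettersK 15 L = true := by
    intro L hL
    refine (allListK_iff L _).mpr (fun w hw => (allListK_iff w _).mpr (fun s hs => ?_))
    have : s < g := lettersK_lt hL hw hs
    exact Nat.ble_eq_true_of_le (by omega)
  have hletsw : lettersK g sw = true :=
    (allListK_iff sw _).mpr (fun w hw => (allListK_iff w _).mpr (fun s hs =>
      Nat.ble_eq_true_of_le (hswl w hw s hs)))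
  obtain ⟨hrel1, hrel2⟩ := relCheck_sound H v hrelc (hlet15 _ hlet) (hlet15 _ hletsw) hbase hswH
  have hvalid : ∀ k < K, Valid H v F k := by
    intro k
    induction k using Nat.strong_induction_on with
    | _ k ih =>
      intro hk
      by_cases hkD : k < D
      · exact defsK_sound H v F hdefs hkD
      · exact chunks_validW H v F IV hv15 hinv hiv15 hrel1 hrel2 chunks K D hchunks hcover k
          (Nat.le_of_not_lt hkD) hk (fun j hj => ih j hj (lt_trans hj hk))
  -- the permutation representation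
  let f : ℕ → Equiv.Perm (Fin N) := fun x => pT hg16 hiv hperm x
  have hψ : ∀ x < g, ∀ i : Fin N, ((f x i : Fin N) : ℕ) = TT x i :=
    fun x hx i => pT_apply hg16 hiv hperm hx i
  have hwords : ∀ b ∈ baseL, wprod f b = 1 := by
    intro b hb
    have hbl : ∀ s ∈ b, s < g := fun s hs => lettersK_lt hlet hb hs
    apply Equiv.ext
    intro i
    apply Fin.ext
    rw [Fn.perm_word f hψ b hbl i]
    exact Nat.eq_of_beq_eq_true ((allBelowK_iff N _).mp ((allListK_iff _ _).mp hrels b hb) i.val i.isLt)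
  obtain ⟨ρ, hρ0⟩ := hlift f (fun s hs => pT_inv hg16 hiv hperm hs) hwords
  have hρ : ∀ x < g, ∀ i : Fin N, ((ρ (v x) i : Fin N) : ℕ) = TT x i := by
    intro x hx i
    rw [hρ0 x hx]
    exact hψ x hx i
  obtain ⟨hindex, Φ, hΦ⟩ := index_and_equiv H v F IV hinv ρ hρ hH hg16 hiv hvalid hfin hlen hN hgen
    hsub htrans
  exact ⟨ρ, hρ, hindex, Φ, hΦ⟩

end Cfsg.Agent.Lib.Helper12.TCG
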